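import Cfsg.Agent.Monster39.Setting

/-!
What one has to know about an element of the Leech lattice group of odd prime order to identify
the centralizer of a corresponding element in a group of Monster type.
-/
set_option autoImplicit false

namespace Cfsg.Agent.MonsterCent3

open Cfsg Cfsg.Agent.Leech

/-- Congruence modulo twice the lattice. -/
abbrev LCong (v w : leechLattice) : Prop := Leech.Cong (v : GolayPt → ℤ) (w : GolayPt → ℤ)

/-- The data on the centralizer of `g0`: representatives of the classes modulo 2 fixed by `g0`, and the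
quotient `L` of the centralizer by `g0` and the centre. -/
structure CentData (g0 : Co0) (L : Type) [Group L] (N : ℕ) where
  r : Fin N → leechLattice
  fixed : ∀ i, LCong (g0 • r i) (r i)
  distinct : ∀ i j, LCong (r i) (r j) → i = j
  complete : ∀ v, LCong (g0 • v) v → ∃ i, LCong v (r i)
  π : Subgroup.centralizer ({g0} : Set Co0) →* L
  surj : Function.Surjective π
  ker : ∀ g, π g = 1 →
    (QuotientGroup.mk (g : Co0) : Spor.Co1) ∈ Subgroup.zpowers (QuotientGroup.mk g0 : Spor.Co1)
  map_self : π ⟨g0, Subgroup.mem_centralizer_singleton_iff.2 rfl⟩ = 1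
  map_center : ∀ g : Subgroup.centralizer ({g0} : Set Co0), (g : Co0) ∈ Subgroup.center Co0 → π g = 1
  faithful : ∀ g : Subgroup.centralizer ({g0} : Set Co0),
    (∀ i, LCong ((g : Co0) • r i) (r i)) → π g = 1

namespace CentData

variable {g0 : Co0} {L : Type} [Group L] {N : ℕ}

/-- Moving by an element. -/
noncomputable def conj (D : CentData g0 L N) (a : Co0) : CentData (a * g0 * a⁻¹) L N where
  r i := a • D.r i
  fixed i := by
    show LCong _ _
    rw [← mul_smul, inv_mul_cancel_right, mul_smul]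
    exact cong_smul a (D.fixed i)
  distinct i j h := D.distinct i j (by
    have := cong_smul a⁻¹ (v := a • D.r i) (w := a • D.r j) h
    rwa [inv_smul_smul, inv_smul_smul] at this)
  complete v h := by
    have h' : LCong (g0 • (a⁻¹ • v)) (a⁻¹ • v) := by
      have := cong_smul a⁻¹ (v := (a * g0 * a⁻¹) • v) (w := v) h
      rwa [mul_smul, mul_smul, inv_smul_smul] at this
    obtain ⟨i, hi⟩ := D.complete _ h'
    refine ⟨i, ?_⟩
    have := cong_smul a (v := a⁻¹ • v) (w := D.r i) hi
    rwa [smul_inv_smul] at this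
  π := D.π.comp (MonoidHom.codRestrict
    ((MulAut.conj a⁻¹).toMonoidHom.comp (Subgroup.centralizer ({a * g0 * a⁻¹} : Set Co0)).subtype) _
    fun g => Subgroup.mem_centralizer_singleton_iff.2 (by
      have h := Subgroup.mem_centralizer_singleton_iff.1 g.2
      show a⁻¹ * (g : Co0) * a⁻¹⁻¹ * g0 = g0 * (a⁻¹ * (g : Co0) * a⁻¹⁻¹)
      rw [inv_inv]
      calc a⁻¹ * (g : Co0) * a * g0 = a⁻¹ * ((g : Co0) * (a * g0 * a⁻¹)) * a := by group
        _ = a⁻¹ * (a * g0 * a⁻¹ * (g : Co0)) * a := by rw [h]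
        _ = _ := by group))
  surj l := by
    obtain ⟨g, rfl⟩ := D.surj l
    refine ⟨⟨a * g * a⁻¹, Subgroup.mem_centralizer_singleton_iff.2 ?_⟩, ?_⟩
    · have h := Subgroup.mem_centralizer_singleton_iff.1 g.2
      calc a * (g : Co0) * a⁻¹ * (a * g0 * a⁻¹) = a * ((g : Co0) * g0) * a⁻¹ := by group
        _ = a * (g0 * (g : Co0)) * a⁻¹ := by rw [h]
        _ = _ := by group
    · show D.π _ = D.π g
      congr 1
      apply Subtype.ext
      show a⁻¹ * (a * (g : Co0) * a⁻¹) * a⁻¹⁻¹ = g
      group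
  ker g hg := by
    obtain ⟨k, hk⟩ := Subgroup.mem_zpowers_iff.1 (D.ker _ hg)
    refine Subgroup.mem_zpowers_iff.2 ⟨k, ?_⟩
    rw [← QuotientGroup.mk_zpow] at hk ⊢
    have h2 : (QuotientGroup.mk (a⁻¹ * (g : Co0) * a⁻¹⁻¹) : Spor.Co1) = QuotientGroup.mk (g0 ^ k) := hk.symm
    rw [inv_inv] at h2
    calc (QuotientGroup.mk ((a * g0 * a⁻¹) ^ k) : Spor.Co1)
        = QuotientGroup.mk a * QuotientGroup.mk (g0 ^ k) * QuotientGroup.mk a⁻¹ := by
          rw [conj_zpow, QuotientGroup.mk_mul, QuotientGroup.mk_mul]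
      _ = QuotientGroup.mk (a * (a⁻¹ * (g : Co0) * a) * a⁻¹) := by
          rw [← h2, ← QuotientGroup.mk_mul, ← QuotientGroup.mk_mul]
      _ = _ := congrArg _ (by group)
  map_self := by
    show D.π _ = 1
    refine Eq.trans (congrArg D.π (Subtype.ext ?_)) D.map_self
    show a⁻¹ * (a * g0 * a⁻¹) * a⁻¹⁻¹ = g0
    group
  map_center g hg := D.map_center _ ((inferInstance : (Subgroup.center Co0).Normal).conj_mem _ hg a⁻¹)
  faithful g hg := D.faithful _ fun i => by
    show LCong ((a⁻¹ * (g : Co0) * a⁻¹⁻¹) • D.r i) _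
    rw [inv_inv, mul_smul, mul_smul]
    have := cong_smul a⁻¹ (v := (g : Co0) • (a • D.r i)) (w := a • D.r i) (hg i)
    rwa [inv_smul_smul] at this

end CentData

end Cfsg.Agent.MonsterCent3
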