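import Cfsg.Agent.Monster39.Baby
import Cfsg.Agent.MonsterCent3.Data

/-!
The centralizer of an element `b` of odd prime order in the involution centralizer of a group of
Monster type, modulo `⟨b⟩`.
-/
set_option autoImplicit false
set_option linter.style.haveILetI false
set_option linter.unusedSectionVars false
set_option maxHeartbeats 1600000

namespace Cfsg.Agent.MonsterCent3

open Cfsg Cfsg.Agent.Monster39
open scoped commutatorElement Pointwise

/-- A criterion for the generalized Fitting subgroup. -/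
theorem generalizedFitting_eq {D L : Type*} [Group D] [Group L] [Finite D] {R : Subgroup D} [R.Normal]
    (e : D ⧸ R ≃* L) (hL : ∀ N : Subgroup L, N.Normal → IsPGroup 2 N → N = ⊥) (hR2 : IsPGroup 2 R)
    (hC : Subgroup.centralizer (R : Set D) ≤ R) : generalizedFittingSubgroup D = R := by
  classical
  have hR : R ≤ fittingSubgroup D := Fitting.le_fitting inferInstance hR2.isNilpotent
  haveI : Group.IsNilpotent (fittingSubgroup D) := Fitting.fitting_isNilpotent
  haveI : (fittingSubgroup D).Normal := Fitting.fitting_normal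
  have hodd : ∀ r : ℕ, r.Prime → r ∣ Nat.card (fittingSubgroup D) → r = 2 := by
    intro r hr hdvd
    by_contra hne
    haveI : Fact r.Prime := ⟨hr⟩
    obtain ⟨P⟩ : Nonempty (Sylow r (fittingSubgroup D)) := inferInstance
    haveI hPn : (P : Subgroup (fittingSubgroup D)).Normal :=
      inferInstance
    haveI := P.characteristic_of_normal hPn
    set T := (P : Subgroup (fittingSubgroup D)).map (fittingSubgroup D).subtype with hT
    haveI hTn : T.Normal := ConjAct.normal_of_characteristic_of_normal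
    have hTp : IsPGroup r T := P.2.map _
    have hdis : Disjoint T R := IsPGroup.disjoint_of_ne r 2 hne T R hTp hR2
    have hle : T ≤ Subgroup.centralizer (R : Set D) := fun x hx =>
      Subgroup.mem_centralizer_iff.2 fun y hy =>
        (Subgroup.commute_of_normal_of_disjoint T R hTn inferInstance hdis x y hx hy).symm.eq
    have hbot : T = ⊥ := le_bot_iff.1 (hdis.le_bot.trans' (le_inf le_rfl (hle.trans hC)))
    rw [hT, Subgroup.map_eq_bot_iff_of_injective _ (fittingSubgroup D).subtype_injective] at hbot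
    have h1 := P.card_eq_multiplicity
    rw [hbot, Subgroup.card_bot] at h1
    have h2 := (hr.dvd_iff_one_le_factorization Nat.card_pos.ne').1 hdvd
    have h3 : r ^ 1 ≤ r ^ (Nat.card (fittingSubgroup D)).factorization r := Nat.pow_le_pow_right hr.pos h2
    have := hr.two_le
    rw [pow_one] at h3
    omega
  have hF2 : IsPGroup 2 (fittingSubgroup D) := IsPGroup.of_card (n := (Nat.card (fittingSubgroup D)).primeFactorsList.length)
    (Nat.eq_prime_pow_of_unique_prime_dvd Nat.card_pos.ne' fun {r} hr hdvd => hodd r hr hdvd)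
  have hF : fittingSubgroup D ≤ R := by
    set f : D →* L := e.toMonoidHom.comp (QuotientGroup.mk' R)
    have hf : Function.Surjective f := e.surjective.comp (QuotientGroup.mk'_surjective R)
    have h1 := hL _ ((inferInstance : (fittingSubgroup D).Normal).map f hf) (hF2.map f)
    rw [Subgroup.map_eq_bot_iff] at h1
    intro x hx
    have := h1 hx
    rw [MonoidHom.mem_ker] at this
    simpa [f] using this
  have hFR : fittingSubgroup D = R := le_antisymm hF hR
  rw [generalizedFittingSubgroup, hFR, sup_eq_right]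
  refine Components.layer_le_centralizer_fitting.trans ?_
  rw [hFR]
  exact hC

variable {G : Type*} [Group G] [Finite G] {z : G}
  {Q : Subgroup (Subgroup.centralizer ({z} : Set G))} [Q.Normal]
  {e : (Subgroup.centralizer ({z} : Set G)) ⧸ Q ≃* Spor.Co1}
  {ψ : leechLattice → Q ⧸ Subgroup.center Q}

/-- The centralizer of `b` in the centralizer of `z`. -/
abbrev centB (b : Subgroup.centralizer ({z} : Set G)) : Subgroup (Subgroup.centralizer ({z} : Set G)) :=
  Subgroup.centralizer ({b} : Set (Subgroup.centralizer ({z} : Set G)))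

/-- The centralizer of `b` in `Q`. -/
abbrev centQB (Q : Subgroup (Subgroup.centralizer ({z} : Set G)))
    (b : Subgroup.centralizer ({z} : Set G)) : Subgroup Q := (centB b).comap Q.subtype

/-- The inclusion of the centralizers. -/
def incQ (b : Subgroup.centralizer ({z} : Set G)) : centQB Q b →* centB b :=
  MonoidHom.mk' (fun q => ⟨((q : Q) : Subgroup.centralizer ({z} : Set G)), q.2⟩) fun _ _ => rfl

variable (M : Setting z Q e ψ) {p : ℕ} (hp : p.Prime) (hp2 : p ≠ 2)
  {b : Subgroup.centralizer ({z} : Set G)} (hb : orderOf b = p)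
  {g0 : Co0} (hbg : proj e b = QuotientGroup.mk g0) (hg0 : g0 ^ p = 1)
  {L : Type} [Group L] {N : ℕ} (D : CentData g0 L N)

include M hp hp2 hb

theorem zQ_pow : M.zQ ^ p = M.zQ := by
  obtain ⟨k, hk⟩ := hp.odd_of_ne_two hp2
  rw [hk, pow_succ, pow_mul, pow_two, M.zQ_sq, one_pow, one_mul]

/-- An element of `Q` whose class is fixed by `b` commutes with `b`. -/
theorem mem_centQB {x : Q}
    (h : (QuotientGroup.mk (cj b x) : Q ⧸ Subgroup.center Q) = QuotientGroup.mk x) : x ∈ centQB Q b := by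
  rcases M.mk_eq_mk.1 h with h1 | h1
  · exact Subgroup.mem_centralizer_singleton_iff.2
      (mul_inv_eq_iff_eq_mul.1 (congrArg Subtype.val h1.symm)).symm
  · exfalso
    have hzc : ∀ c : Subgroup.centralizer ({z} : Set G), Commute c (zC z) := fun c => zC_comm c
    have h2 : b * (x : Subgroup.centralizer ({z} : Set G)) * b⁻¹ = x * zC z := by
      have h3 : (x : Subgroup.centralizer ({z} : Set G)) = b * x * b⁻¹ * zC z := congrArg Subtype.val h1
      have hz2 : zC z * zC z = 1 := congrArg Subtype.val M.zQ_sq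
      calc b * (x : Subgroup.centralizer ({z} : Set G)) * b⁻¹
          = b * x * b⁻¹ * (zC z * zC z) := by rw [hz2, mul_one]
        _ = b * x * b⁻¹ * zC z * zC z := (mul_assoc _ _ _).symm
        _ = _ := by rw [← h3]
    have hn : ∀ n : ℕ, b ^ n * (x : Subgroup.centralizer ({z} : Set G)) * (b ^ n)⁻¹ = x * zC z ^ n := by
      intro n
      induction n with
      | zero => simp
      | succ n ih =>
        calc b ^ (n + 1) * (x : Subgroup.centralizer ({z} : Set G)) * (b ^ (n + 1))⁻¹
            = b * (b ^ n * x * (b ^ n)⁻¹) * b⁻¹ := by group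
          _ = b * (x * zC z ^ n) * b⁻¹ := by rw [ih]
          _ = b * x * b⁻¹ * (b * zC z ^ n * b⁻¹) := by group
          _ = x * zC z * zC z ^ n := by rw [h2, ((hzc b).pow_right n).eq, mul_inv_cancel_right]
          _ = _ := by rw [mul_assoc, ← pow_succ']
    have h4 := hn p
    rw [← hb, pow_orderOf_eq_one, one_mul, inv_one, mul_one, hb] at h4
    have h5 : zC z ^ p = 1 := left_eq_mul.1 h4
    have h6 : M.zQ ^ p = 1 := Subtype.ext (by rw [SubmonoidClass.coe_pow]; exact h5)
    rw [zQ_pow M hp hp2 hb] at h6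
    exact M.zQ_ne_one h6

include hbg

theorem mk_cj {x : Q} {v : leechLattice} (hv : ψ v = QuotientGroup.mk x) :
    ψ (g0 • v) = QuotientGroup.mk (cj b x) :=
  M.hψ.2.2.2 b g0 hbg.symm v x hv

theorem mem_centQB_iff {x : Q} {v : leechLattice} (hv : ψ v = QuotientGroup.mk x) :
    x ∈ centQB Q b ↔ LCong (g0 • v) v := by
  rw [LCong, ← M.map_eq_iff, mk_cj M hp hp2 hb hbg hv, hv]
  refine ⟨fun h => ?_, mem_centQB M hp hp2 hb⟩
  have : cj b x = x := Subtype.ext (mul_inv_eq_iff_eq_mul.2 (Subgroup.mem_centralizer_singleton_iff.1 h).symm)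
  rw [this]

include D in
theorem card_centQB : Nat.card (centQB Q b) = 2 * N := by
  let S : Set (Q ⧸ Subgroup.center Q) := Set.range fun i => ψ (D.r i)
  have hS : Nat.card S = N := by
    rw [Nat.card_range_of_injective (fun i j h => D.distinct i j ((M.map_eq_iff _ _).1 h)), Nat.card_fin]
  have hset : (centQB Q b : Set Q) = QuotientGroup.mk ⁻¹' S := by
    ext x
    obtain ⟨v, hv⟩ := M.hψ.2.1 (QuotientGroup.mk x)
    rw [SetLike.mem_coe, mem_centQB_iff M hp hp2 hb hbg hv, Set.mem_preimage, ← hv]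
    constructor
    · intro h
      obtain ⟨i, hi⟩ := D.complete v h
      exact ⟨i, ((M.map_eq_iff _ _).2 hi).symm⟩
    · rintro ⟨i, hi⟩
      have hc := (M.map_eq_iff _ _).1 hi
      refine (M.map_eq_iff _ _).1 ?_
      rw [← hi, (M.map_eq_iff _ _).2 (Leech.cong_smul g0 (Leech.Cong.symm hc)), (M.map_eq_iff _ _).2 (D.fixed i)]
  have h := Nat.card_congr (QuotientGroup.preimageMkEquivSubgroupProdSet (Subgroup.center Q) S)
  rw [Nat.card_prod, hS, M.hS.2.2.1.2, Nat.card_coe_set_eq, ← hset, ← Nat.card_coe_set_eq] at h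
  exact h

include hg0

/-- The partial products over an orbit of `b`. -/
theorem exists_orbit_prod (x : Q) {v : leechLattice} (hv : ψ v = QuotientGroup.mk x) (q : Q)
    (hq : q ∈ centQB Q b) (hqx : q * x ≠ x * q) :
    ∀ n : ℕ, ∃ (w : leechLattice) (y : Q), ψ w = QuotientGroup.mk y ∧
      g0 • w + v = w + g0 ^ n • v ∧ q * y = y * q * M.zQ ^ n := by
  intro n
  induction n with
  | zero =>
    refine ⟨0, 1, M.map_zero, ?_, by simp⟩
    have h := Leech.smul_add' g0 (0 : leechLattice) 0
    rw [add_zero] at h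
    rw [left_eq_add.1 h, pow_zero, one_smul]
  | succ n ih =>
    obtain ⟨w, y, hw, he, hc⟩ := ih
    have hbc : ∀ k : ℕ, ∃ u : Q, ψ (g0 ^ k • v) = QuotientGroup.mk u ∧
        q * u = u * q * M.zQ := by
      intro k
      induction k with
      | zero =>
        refine ⟨x, by rw [pow_zero, one_smul]; exact hv, ?_⟩
        exact (M.qdata.comm q x).resolve_left hqx
      | succ k ihk =>
        obtain ⟨u, hu, hu'⟩ := ihk
        refine ⟨cj b u, by rw [pow_succ', mul_smul]; exact mk_cj M hp hp2 hb hbg hu, ?_⟩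
        apply Subtype.ext
        have h1 : (q : Subgroup.centralizer ({z} : Set G)) * u = u * q * zC z := congrArg Subtype.val hu'
        have h2 : (q : Subgroup.centralizer ({z} : Set G)) * b = b * q := Subgroup.mem_centralizer_singleton_iff.1 hq
        have h3 : (q : Subgroup.centralizer ({z} : Set G)) * b⁻¹ = b⁻¹ * q := (Commute.inv_right h2).eq
        show (q : Subgroup.centralizer ({z} : Set G)) * (b * u * b⁻¹) = b * u * b⁻¹ * q * zC z
        calc (q : Subgroup.centralizer ({z} : Set G)) * (b * u * b⁻¹)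
            = (q * b) * u * b⁻¹ := by group
          _ = b * (q * u) * b⁻¹ := by rw [h2]; group
          _ = b * (u * q) * (zC z * b⁻¹) := by rw [h1]; group
          _ = b * u * (q * b⁻¹) * zC z := by rw [← zC_comm b⁻¹]; group
          _ = _ := by rw [h3]; group
    obtain ⟨u, hu, hu'⟩ := hbc n
    refine ⟨w + g0 ^ n • v, y * u, by rw [M.hψ.1, hw, hu]; rfl, ?_, ?_⟩
    · rw [Leech.smul_add', ← mul_smul, ← pow_succ']
      calc g0 • w + g0 ^ (n + 1) • v + v = g0 • w + v + g0 ^ (n + 1) • v := by abel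
        _ = _ := by rw [he]
    · calc q * (y * u) = q * y * u := by group
        _ = y * q * M.zQ ^ n * u := by rw [hc]
        _ = y * q * (u * M.zQ ^ n) := by
            rw [mul_assoc (y * q), ((show Commute u M.zQ from M.zQ_central u).pow_right n).eq]
        _ = y * (q * u) * M.zQ ^ n := by group
        _ = y * (u * q * M.zQ) * M.zQ ^ n := by rw [hu']
        _ = _ := by rw [pow_succ']; group

/-- The centre of the centralizer of `b` in `Q`. -/
theorem center_centQB {q : centQB Q b} (hq : ∀ r : centQB Q b, q * r = r * q) :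
    (q : Q) = 1 ∨ (q : Q) = M.zQ := by
  rw [← M.mem_center_iff, Subgroup.mem_center_iff]
  intro x
  by_contra hx
  obtain ⟨v, hv⟩ := M.hψ.2.1 (QuotientGroup.mk x)
  obtain ⟨w, y, hw, he, hc⟩ := exists_orbit_prod M hp hp2 hb hbg hg0 x hv (q : Q) q.2 (Ne.symm hx) p
  rw [hg0, one_smul] at he
  have hy : y ∈ centQB Q b := by
    rw [mem_centQB_iff M hp hp2 hb hbg hw, add_right_cancel he]
    exact Leech.Cong.refl _
  have h1 : (q : Q) * y = y * q := congrArg Subtype.val (hq ⟨y, hy⟩)
  rw [h1, zQ_pow M hp hp2 hb] at hc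
  exact M.zQ_ne_one (left_eq_mul.1 hc)

omit hbg hg0 in
/-- An element normalizing `⟨b⟩Q/Q` can be corrected by `Q` to centralize `b`. -/
theorem exists_correct {h : Subgroup.centralizer ({z} : Set G)} (hh : proj e (h * b * h⁻¹) = proj e b) :
    ∃ q : Q, (q : Subgroup.centralizer ({z} : Set G)) * h ∈ centB b := by
  classical
  haveI : Fact p.Prime := ⟨hp⟩
  set K := Q ⊔ Subgroup.zpowers b with hK
  set P1 := (Subgroup.zpowers b).subgroupOf K
  set P2 := (Subgroup.zpowers (h * b * h⁻¹)).subgroupOf K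
  have hbK : b ∈ K := Subgroup.mem_sup_right (Subgroup.mem_zpowers b)
  have hb'K : h * b * h⁻¹ ∈ K := by
    have h1 : h * b * h⁻¹ * b⁻¹ ∈ Q := by
      rw [← proj_eq_one (e := e), map_mul, hh, map_inv, mul_inv_cancel]
    have h2 := K.mul_mem (Subgroup.mem_sup_left h1) hbK
    rwa [inv_mul_cancel_right] at h2
  have ho : orderOf (h * b * h⁻¹) = p := (orderOf_injective (MulAut.conj h).toMonoidHom (MulAut.conj h).injective b).trans hb
  have hc1 : Nat.card P1 = p := by
    rw [Nat.card_congr (Subgroup.subgroupOfEquivOfLe (Subgroup.zpowers_le.2 hbK)).toEquiv, Nat.card_zpowers, hb]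
  have hc2 : Nat.card P2 = p := by
    rw [Nat.card_congr (Subgroup.subgroupOfEquivOfLe (Subgroup.zpowers_le.2 hb'K)).toEquiv, Nat.card_zpowers, ho]
  have hKc : (Nat.card K).factorization p ≤ 1 := by
    have h1 := card_map_mul_inf_ker (proj e) K
    have h2 : K.map (proj e) = Subgroup.zpowers (proj e b) := by
      rw [hK, Subgroup.map_sup, MonoidHom.map_zpowers]
      refine sup_eq_right.2 ?_
      rintro _ ⟨q, hq, rfl⟩
      rw [proj_eq_one.2 hq]; exact one_mem _
    rw [h2, ker_proj, inf_of_le_right (le_sup_left : Q ≤ K), M.card_Q, Nat.card_zpowers] at h1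
    have h3 : orderOf (proj e b) ∣ p := hb ▸ orderOf_map_dvd (proj e) b
    rw [← h1, Nat.factorization_mul (Nat.pos_of_dvd_of_pos h3 hp.pos).ne'
      (by norm_num)]
    simp only [Finsupp.coe_add, Pi.add_apply]
    have h4 : (2 ^ 25).factorization p = 0 := by
      rw [Nat.prime_two.factorization_pow, Finsupp.single_apply, if_neg (Ne.symm hp2)]
    rcases (Nat.dvd_prime hp).1 h3 with h5 | h5 <;> rw [h4, h5]
    · simp
    · rw [hp.factorization_self]
  have hcard : ∀ P : Subgroup K, Nat.card P = p → Nat.card P = p ^ (Nat.card K).factorization p := by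
    intro P hP
    have h1 : p ∣ Nat.card K := hP ▸ Subgroup.card_subgroup_dvd_card P
    have h2 := (hp.dvd_iff_one_le_factorization Nat.card_pos.ne').1 h1
    rw [hP, show (Nat.card K).factorization p = 1 by omega, pow_one]
  obtain ⟨k, hk⟩ := MulAction.exists_smul_eq K (Sylow.ofCard P2 (hcard _ hc2)) (Sylow.ofCard P1 (hcard _ hc1))
  have hk' : MulAut.conj k • P2 = P1 := congrArg (fun P : Sylow p K => (P : Subgroup K)) hk
  have hmem : (⟨h * b * h⁻¹, hb'K⟩ : K) ∈ P2 := Subgroup.mem_zpowers _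
  have h3 : (k : Subgroup.centralizer ({z} : Set G)) * (h * b * h⁻¹) * (k : Subgroup.centralizer ({z} : Set G))⁻¹ ∈
      Subgroup.zpowers b := by
    have := Subgroup.smul_mem_pointwise_smul _ (MulAut.conj k) _ hmem
    rw [hk'] at this
    exact this
  obtain ⟨q, hq, u, hu, hqu⟩ : ∃ q ∈ Q, ∃ u ∈ Subgroup.zpowers b, q * u = (k : Subgroup.centralizer ({z} : Set G))⁻¹ :=
    Subgroup.mem_sup_of_normal_left.1 (K.inv_mem k.2)
  have hk2 : (k : Subgroup.centralizer ({z} : Set G)) = u⁻¹ * q⁻¹ := by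
    rw [← inv_inv (k : Subgroup.centralizer ({z} : Set G)), ← hqu, mul_inv_rev]
  rw [hk2] at h3
  set w := q⁻¹ * (h * b * h⁻¹) * q
  have hw : w ∈ Subgroup.zpowers b := by
    have h4 := mul_mem (mul_mem hu h3) (inv_mem hu)
    have e1 : u * (u⁻¹ * q⁻¹ * (h * b * h⁻¹) * (u⁻¹ * q⁻¹)⁻¹) * u⁻¹ = w := by simp only [w]; group
    rwa [e1] at h4
  have hwb : w = b := by
    have hmem2 : w * b⁻¹ ∈ Subgroup.zpowers b := mul_mem hw (inv_mem (Subgroup.mem_zpowers b))
    have hQ2 : w * b⁻¹ ∈ Q := by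
      rw [← proj_eq_one (e := e)]
      have hw' : proj e w = proj e b := by
        show proj e (q⁻¹ * (h * b * h⁻¹) * q) = proj e b
        rw [map_mul _ (q⁻¹ * (h * b * h⁻¹)) q, map_mul _ q⁻¹ (h * b * h⁻¹), hh, map_inv,
          proj_eq_one.2 hq, inv_one, one_mul, mul_one]
      rw [map_mul, hw', map_inv, mul_inv_cancel]
    have h5 : orderOf (w * b⁻¹) ∣ p := by
      have := Subgroup.orderOf_dvd_natCard _ hmem2
      rwa [Nat.card_zpowers, hb] at this
    have h6 : orderOf (w * b⁻¹) ∣ 2 ^ 25 := M.card_Q ▸ Subgroup.orderOf_dvd_natCard Q hQ2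
    have := Nat.eq_one_of_dvd_coprimes
      (Nat.Coprime.pow_right 25 ((Nat.coprime_primes hp Nat.prime_two).2 hp2)) h5 h6
    rw [orderOf_eq_one_iff, mul_inv_eq_one] at this
    exact this
  refine ⟨⟨q⁻¹, inv_mem hq⟩, Subgroup.mem_centralizer_singleton_iff.2 ?_⟩
  show q⁻¹ * h * b = b * (q⁻¹ * h)
  conv_rhs => rw [← hwb]
  simp only [w]
  group

include D in
/-- The centralizer of `b` modulo `⟨b⟩` at the image of `z`. -/
theorem type_of_cent (hL : ∀ T : Subgroup L, T.Normal → IsPGroup 2 T → T = ⊥) {w : ℕ} (hw : 1 ≤ w) (hN : N = 2 ^ (2 * w))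
    {B : Subgroup G} (hB : B = Subgroup.zpowers (b : G))
    [hn : (B.subgroupOf (Subgroup.centralizer (B : Set G))).Normal]
    {g : G} (hg : g ∈ Subgroup.centralizer (B : Set G)) {s : Q}
    (hgs : g * z * g⁻¹ = ((s : Subgroup.centralizer ({z} : Set G)) : G)) (hs : s ≠ M.zQ) :
    ∃ (z' : ↥(Subgroup.centralizer (B : Set G)) ⧸ B.subgroupOf (Subgroup.centralizer (B : Set G)))
      (R : Subgroup (Subgroup.centralizer ({z'} :
        Set (↥(Subgroup.centralizer (B : Set G)) ⧸ B.subgroupOf (Subgroup.centralizer (B : Set G))))))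
      (_ : R.Normal),
      IsExtraspecialCentralizerSetting z' R w ∧ Nonempty (_ ⧸ R ≃* L) ∧
      (∃ h : z ∈ Subgroup.centralizer (B : Set G), z' = QuotientGroup.mk ⟨z, h⟩) ∧
      ∀ x, x ∈ R ↔ ∃ q : Q, q ∈ centQB Q b ∧
        ∃ hq : ((q : Subgroup.centralizer ({z} : Set G)) : G) ∈ Subgroup.centralizer (B : Set G),
          (x : ↥(Subgroup.centralizer (B : Set G)) ⧸ B.subgroupOf (Subgroup.centralizer (B : Set G))) =
            QuotientGroup.mk ⟨_, hq⟩ := by
  classical
  haveI := finiteCo1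
  set H := Subgroup.centralizer (B : Set G) with hH
  set NB := B.subgroupOf H with hNB
  have hmemH : ∀ a : G, a ∈ H ↔ a * (b : G) = b * a := by
    intro a
    rw [hH, hB, Subgroup.mem_centralizer_iff]
    constructor
    · exact fun h => (h _ (Subgroup.mem_zpowers _)).symm
    · rintro h c ⟨k, rfl⟩
      exact ((Commute.zpow_left (show Commute (b : G) a from h.symm) k)).eq
  have hbG : orderOf (b : G) = p := (Subgroup.orderOf_coe b).trans hb
  let ι : centB b →* H := MonoidHom.mk'
    (fun c => ⟨((c : Subgroup.centralizer ({z} : Set G)) : G), (hmemH _).2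
      (congrArg Subtype.val (Subgroup.mem_centralizer_singleton_iff.1 c.2))⟩) fun _ _ => rfl
  have hzH : z ∈ H := (hmemH z).2 (Subgroup.mem_centralizer_singleton_iff.1 b.2).symm
  let z' : H ⧸ NB := QuotientGroup.mk ⟨z, hzH⟩
  have hmkN : ∀ a c : H, (QuotientGroup.mk a : H ⧸ NB) = QuotientGroup.mk c ↔ (a : G)⁻¹ * c ∈ B := by
    intro a c
    rw [QuotientGroup.eq, hNB, Subgroup.mem_subgroupOf]
    rfl
  have hφmem : ∀ c : centB b, (QuotientGroup.mk (ι c) : H ⧸ NB) ∈ Subgroup.centralizer ({z'} : Set (H ⧸ NB)) := by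
    intro c
    rw [Subgroup.mem_centralizer_singleton_iff, ← QuotientGroup.mk_mul, ← QuotientGroup.mk_mul]
    congr 1
    exact Subtype.ext (Subgroup.mem_centralizer_singleton_iff.1 (c : Subgroup.centralizer ({z} : Set G)).2)
  let φ : centB b →* Subgroup.centralizer ({z'} : Set (H ⧸ NB)) :=
    ((QuotientGroup.mk' NB).comp ι).codRestrict _ hφmem
  have hpodd : ∀ u : G, u ∈ B → u * u = 1 → u = 1 := by
    intro u hu hu2
    rw [hB] at hu
    have h1 : orderOf u ∣ p := by
      have := Subgroup.orderOf_dvd_natCard _ hu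
      rwa [Nat.card_zpowers, hbG] at this
    have h2 : orderOf u ∣ 2 := orderOf_dvd_of_pow_eq_one (by rw [pow_two, hu2])
    exact orderOf_eq_one_iff.1 (Nat.eq_one_of_dvd_coprimes ((Nat.coprime_primes hp Nat.prime_two).2 hp2) h1 h2)
  have hφsurj : Function.Surjective φ := by
    rintro ⟨d, hd⟩
    obtain ⟨h, rfl⟩ := QuotientGroup.mk_surjective d
    rw [Subgroup.mem_centralizer_singleton_iff, ← QuotientGroup.mk_mul, ← QuotientGroup.mk_mul, hmkN] at hd
    simp only [Subgroup.coe_mul] at hd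
    set u := ((h : G) * z)⁻¹ * (z * h) with hu
    have hzu : z * u = u * z := by
      rw [hB] at hd
      obtain ⟨k, hk⟩ := hd
      rw [← hk]
      exact ((show Commute z (b : G) from (Subgroup.mem_centralizer_singleton_iff.1 b.2).symm).zpow_right k).eq
    have hu1 : u = 1 := by
      refine hpodd u hd ?_
      have h2 : (z * u) * (z * u) = 1 := by
        have : z * u = (h : G)⁻¹ * z * h := by rw [hu]; group
        rw [this, show (h : G)⁻¹ * z * h * ((h : G)⁻¹ * z * h) = (h : G)⁻¹ * (z * z) * h by group, M.zz_eq]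
        group
      calc u * u = z * z * (u * u) := by rw [M.zz_eq, one_mul]
        _ = z * (z * u) * u := by group
        _ = z * (u * z) * u := by rw [hzu]
        _ = z * u * (z * u) := by group
        _ = 1 := h2
    rw [hu, inv_mul_eq_one] at hu1
    refine ⟨⟨⟨h, Subgroup.mem_centralizer_singleton_iff.2 hu1⟩, Subgroup.mem_centralizer_singleton_iff.2
      (Subtype.ext ((hmemH _).1 h.2))⟩, rfl⟩
  have hφ1 : ∀ c : centB b, φ c = 1 ↔ ((c : Subgroup.centralizer ({z} : Set G)) : G) ∈ B := fun c => by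
    rw [Subtype.ext_iff]
    show (QuotientGroup.mk (ι c) : H ⧸ NB) = 1 ↔ _
    rw [QuotientGroup.eq_one_iff, hNB, Subgroup.mem_subgroupOf]
    rfl
  -- the map onto `L`
  let toC1 : Subgroup.centralizer ({g0} : Set Co0) →*
      Subgroup.centralizer ({(QuotientGroup.mk g0 : Spor.Co1)} : Set Spor.Co1) :=
    ((QuotientGroup.mk' (Subgroup.center Co0)).comp (Subgroup.centralizer ({g0} : Set Co0)).subtype).codRestrict _
      fun a => Subgroup.mem_centralizer_singleton_iff.2 (by
        show (QuotientGroup.mk (a : Co0) : Spor.Co1) * QuotientGroup.mk g0 = QuotientGroup.mk g0 * QuotientGroup.mk (a : Co0)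
        rw [← QuotientGroup.mk_mul, ← QuotientGroup.mk_mul, Subgroup.mem_centralizer_singleton_iff.1 a.2])
  have htoC1 : Function.Surjective toC1 := by
    rintro ⟨y, hy⟩
    obtain ⟨a, rfl⟩ := QuotientGroup.mk_surjective y
    rw [Subgroup.mem_centralizer_singleton_iff, ← QuotientGroup.mk_mul, ← QuotientGroup.mk_mul, QuotientGroup.eq] at hy
    set c := (a * g0)⁻¹ * (g0 * a) with hc
    have hcc : ∀ x : Co0, x * c = c * x := fun x => Subgroup.mem_center_iff.1 hy x
    refine ⟨⟨a, Subgroup.mem_centralizer_singleton_iff.2 ?_⟩, rfl⟩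
    have hc2 : c * c = 1 := by
      rcases Leech.center_eq_or _ hy with h | h <;> rw [h]
      · exact one_mul 1
      · exact Leech.negOne_sq
    have hcp : c ^ p = 1 := by
      have h1 : g0 * c = a⁻¹ * g0 * a := by
        rw [hcc g0, hc, mul_inv_rev]
        calc g0⁻¹ * a⁻¹ * (g0 * a) * g0 = g0⁻¹ * (a⁻¹ * (g0 * a) * g0) := by group
          _ = g0⁻¹ * (g0 * (a⁻¹ * g0 * a)) := by
              congr 1
              have : (a⁻¹ * g0 * a) * g0 = g0 * (a⁻¹ * g0 * a) := by
                have e1 : a⁻¹ * g0 * a = g0 * c := by rw [hc]; group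
                rw [e1, mul_assoc, ← hcc g0]
              rw [← this]; group
          _ = _ := by group
      have h2 : (g0 * c) ^ p = 1 := by
        have : (a⁻¹ * g0 * a⁻¹⁻¹) ^ p = 1 := by rw [conj_pow, hg0, mul_one, mul_inv_cancel]
        rwa [inv_inv, ← h1] at this
      rwa [(show Commute g0 c from hcc g0).mul_pow, hg0, one_mul] at h2
    obtain ⟨k, hk⟩ := hp.odd_of_ne_two hp2
    rw [hk, pow_succ, pow_mul, pow_two, hc2, one_pow, one_mul] at hcp
    rw [hc, inv_mul_eq_one] at hcp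
    exact hcp
  let π' : Subgroup.centralizer ({(QuotientGroup.mk g0 : Spor.Co1)} : Set Spor.Co1) →* L :=
    (QuotientGroup.lift toC1.ker D.π fun a ha => D.map_center a
      ((QuotientGroup.eq_one_iff _).1 (congrArg Subtype.val ha))).comp
      (QuotientGroup.quotientKerEquivOfSurjective toC1 htoC1).symm.toMonoidHom
  have hπ' : ∀ a, π' (toC1 a) = D.π a := by
    intro a
    have : (QuotientGroup.quotientKerEquivOfSurjective toC1 htoC1).symm (toC1 a) = QuotientGroup.mk a :=
      (MulEquiv.symm_apply_eq _).2 rfl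
    simp only [π', MonoidHom.comp_apply, MulEquiv.toMonoidHom_eq_coe, MonoidHom.coe_coe]
    rw [this]
    rfl
  let θ : centB b →* Subgroup.centralizer ({(QuotientGroup.mk g0 : Spor.Co1)} : Set Spor.Co1) :=
    ((proj e).comp (centB b).subtype).codRestrict _ fun c => Subgroup.mem_centralizer_singleton_iff.2 (by
      show proj e c * _ = _ * proj e c
      rw [← hbg, ← map_mul, ← map_mul, Subgroup.mem_centralizer_singleton_iff.1 c.2])
  let Θ : centB b →* L := π'.comp θ
  have hθsurj : Function.Surjective θ := by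
    rintro ⟨y, hy⟩
    obtain ⟨h, rfl⟩ := proj_surjective e y
    rw [Subgroup.mem_centralizer_singleton_iff, ← hbg] at hy
    obtain ⟨q, hq⟩ := exists_correct M hp hp2 hb (h := h) (by rw [map_mul, map_mul, map_inv, hy, mul_inv_cancel_right])
    refine ⟨⟨_, hq⟩, Subtype.ext ?_⟩
    show proj e ((q : Subgroup.centralizer ({z} : Set G)) * h) = proj e h
    rw [map_mul, proj_eq_one.2 q.2, one_mul]
  have hΘsurj : Function.Surjective Θ := fun l => by
    obtain ⟨a, rfl⟩ := D.surj l
    obtain ⟨c, hc⟩ := hθsurj (toC1 a)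
    exact ⟨c, by show π' (θ c) = _; rw [hc, hπ']⟩
  let bB : centB b := ⟨b, Subgroup.mem_centralizer_singleton_iff.2 rfl⟩
  have hΘb : Θ bB = 1 := by
    have : θ bB = toC1 ⟨g0, Subgroup.mem_centralizer_singleton_iff.2 rfl⟩ := Subtype.ext hbg
    show π' (θ bB) = 1
    rw [this, hπ', D.map_self]
  let χ : centQB Q b →* Subgroup.centralizer ({z'} : Set (H ⧸ NB)) := φ.comp (incQ b)
  have hΘQ : ∀ q : centQB Q b, Θ (incQ b q) = 1 := by
    intro q
    have : θ (incQ b q) = 1 := Subtype.ext (proj_eq_one.2 (q : Q).2)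
    show π' (θ (incQ b q)) = 1
    rw [this, map_one]
  have hΘ1 : ∀ c : centB b, Θ c = 1 ↔ φ c ∈ χ.range := by
    intro c
    constructor
    · intro h
      obtain ⟨a, ha⟩ := htoC1 (θ c)
      have h1 : D.π a = 1 := by rw [← hπ', ha]; exact h
      obtain ⟨k, hk⟩ := Subgroup.mem_zpowers_iff.1 (D.ker a h1)
      have hc : proj e (c : Subgroup.centralizer ({z} : Set G)) = proj e b ^ k := by
        rw [hbg, hk]; exact (congrArg Subtype.val ha).symm
      have hq : (c : Subgroup.centralizer ({z} : Set G)) * (b ^ k)⁻¹ ∈ Q := by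
        rw [← proj_eq_one (e := e), map_mul, map_inv, map_zpow, hc, mul_inv_cancel]
      have hqb : (⟨_, hq⟩ : Q) ∈ centQB Q b :=
        mul_mem c.2 (inv_mem (zpow_mem (Subgroup.mem_centralizer_singleton_iff.2 rfl) k))
      refine ⟨⟨_, hqb⟩, ?_⟩
      have hbk : φ (bB ^ k) = 1 := (hφ1 _).2 (by
        rw [hB, SubgroupClass.coe_zpow, SubgroupClass.coe_zpow]
        exact zpow_mem (Subgroup.mem_zpowers _) k)
      have : c = incQ b ⟨_, hqb⟩ * bB ^ k := Subtype.ext (inv_mul_cancel_right _ _).symm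
      conv_rhs => rw [this, map_mul, hbk, mul_one]
      rfl
    · rintro ⟨q, hq⟩
      have h1 : φ ((incQ b q)⁻¹ * c) = 1 := by rw [map_mul, map_inv, ← hq]; exact inv_mul_cancel _
      rw [hφ1, hB] at h1
      obtain ⟨k, hk⟩ := h1
      have : c = incQ b q * bB ^ k := by
        rw [eq_comm, ← eq_inv_mul_iff_mul_eq]
        apply Subtype.ext; apply Subtype.ext
        rw [SubgroupClass.coe_zpow, SubgroupClass.coe_zpow]
        exact hk
      rw [this, map_mul, hΘQ, map_zpow, hΘb, one_zpow, one_mul]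
  have hker : φ.ker ≤ Θ.ker := by
    intro c hc
    rw [MonoidHom.mem_ker, hΘ1, hc]
    exact one_mem _
  let Θ' : Subgroup.centralizer ({z'} : Set (H ⧸ NB)) →* L :=
    (QuotientGroup.lift φ.ker Θ hker).comp
      (QuotientGroup.quotientKerEquivOfSurjective φ hφsurj).symm.toMonoidHom
  have hΘ' : ∀ c, Θ' (φ c) = Θ c := by
    intro c
    have : (QuotientGroup.quotientKerEquivOfSurjective φ hφsurj).symm (φ c) = QuotientGroup.mk c :=
      (MulEquiv.symm_apply_eq _).2 rfl
    show QuotientGroup.lift φ.ker Θ hker ((QuotientGroup.quotientKerEquivOfSurjective φ hφsurj).symm (φ c)) = _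
    rw [this]
    rfl
  set R := χ.range with hR
  have hRker : R = Θ'.ker := by
    ext d
    obtain ⟨c, rfl⟩ := hφsurj d
    rw [MonoidHom.mem_ker, hΘ', hΘ1]
  haveI hRn : R.Normal := hRker ▸ inferInstance
  have hΘ'surj : Function.Surjective Θ' := fun l => by
    obtain ⟨c, rfl⟩ := hΘsurj l
    exact ⟨φ c, hΘ' c⟩
  let e' : Subgroup.centralizer ({z'} : Set (H ⧸ NB)) ⧸ R ≃* L :=
    (QuotientGroup.quotientMulEquivOfEq hRker).trans (QuotientGroup.quotientKerEquivOfSurjective Θ' hΘ'surj)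
  have hQB : ∀ x : Q, ((x : Subgroup.centralizer ({z} : Set G)) : G) ∈ B → x = 1 := by
    intro x hx
    rw [hB] at hx
    have h1 : orderOf x ∣ p := by
      have := Subgroup.orderOf_dvd_natCard _ hx
      rwa [Nat.card_zpowers, hbG, Subgroup.orderOf_coe, Subgroup.orderOf_coe] at this
    have h2 : orderOf x ∣ 2 ^ 25 := M.card_Q ▸ orderOf_dvd_natCard x
    exact orderOf_eq_one_iff.1 (Nat.eq_one_of_dvd_coprimes
      (Nat.Coprime.pow_right 25 ((Nat.coprime_primes hp Nat.prime_two).2 hp2)) h1 h2)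
  have hχinj : Function.Injective χ := by
    rw [injective_iff_map_eq_one]
    intro q hq
    exact Subtype.ext (hQB q ((hφ1 _).1 hq))
  have hcardR : Nat.card R = 2 ^ (2 * w + 1) := by
    rw [hR, ← Nat.card_congr (MonoidHom.ofInjective hχinj).toEquiv, card_centQB M hp hp2 hb hbg D, hN, pow_succ']
  let zA : centQB Q b := ⟨M.zQ, Subgroup.mem_centralizer_singleton_iff.2 (zC_comm b).symm⟩
  have hzA : ∀ q : centQB Q b, Commute zA q := fun q => Subtype.ext (M.zQ_central q).symm
  let cR : R := χ.rangeRestrict zA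
  have hc1 : cR ≠ 1 := fun h => M.zQ_ne_one (congrArg Subtype.val (hχinj ((congrArg Subtype.val h).trans (map_one χ).symm)))
  have hcR : ∀ r : R, Commute cR r := by
    intro r
    obtain ⟨q, rfl⟩ := χ.rangeRestrict_surjective r
    exact (hzA q).map _
  have hzpR : ∀ q : centQB Q b, ((q : Q) = 1 ∨ (q : Q) = M.zQ) → χ.rangeRestrict q ∈ Subgroup.zpowers cR := by
    rintro q (h | h)
    · rw [show q = 1 from Subtype.ext h, map_one]; exact one_mem _
    · rw [show q = zA from Subtype.ext h]; exact Subgroup.mem_zpowers _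
  have hRp : IsPGroup 2 R := IsPGroup.of_card (n := 2 * w + 1) hcardR
  have hex : IsExtraspecial 2 R := by
    refine LargeExtraspecial.isExtraspecial_of hRp (c := cR) hc1 ?_ hcR (fun r hr => ?_) (fun a c => ?_)
      (fun a => ?_) ?_
    · rw [← map_mul, show zA * zA = 1 from Subtype.ext M.zQ_sq, map_one]
    · obtain ⟨q, rfl⟩ := χ.rangeRestrict_surjective r
      refine hzpR q (center_centQB M hp hp2 hb hbg hg0 fun r => ?_)
      refine hχinj ?_
      rw [map_mul, map_mul]
      exact congrArg Subtype.val (hr (χ.rangeRestrict r)).eq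
    · obtain ⟨q, rfl⟩ := χ.rangeRestrict_surjective a
      obtain ⟨r, rfl⟩ := χ.rangeRestrict_surjective c
      rw [← map_commutatorElement]
      refine hzpR _ ?_
      have he : (⁅q, r⁆ : centQB Q b).1 = (q : Q) * r * ((r : Q) * q)⁻¹ := by
        show (q : Q) * r * (q : Q)⁻¹ * (r : Q)⁻¹ = _
        group
      rcases M.qdata.comm (q : Q) r with h | h
      · exact Or.inl (he.trans (by rw [h, mul_inv_cancel]))
      · exact Or.inr (he.trans (by rw [h, M.zQ_central, mul_inv_cancel_right]))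
    · obtain ⟨q, rfl⟩ := χ.rangeRestrict_surjective a
      rw [← map_mul]
      exact hzpR _ (M.qdata.squares (q : Q))
    · by_contra hall
      push Not at hall
      have htop : ∀ q : centQB Q b, (q : Q) = 1 ∨ (q : Q) = M.zQ := fun q =>
        center_centQB M hp hp2 hb hbg hg0 fun r => hχinj (by
          rw [map_mul, map_mul]
          exact congrArg Subtype.val (commutatorElement_eq_one_iff_commute.1 (hall (χ.rangeRestrict q) (χ.rangeRestrict r))).eq)
      have : (Set.univ : Set (centQB Q b)) ⊆ {1, zA} := fun q _ =>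
        (htop q).imp (fun h => Subtype.ext h) fun h => Subtype.ext h
      have h1 := Set.ncard_le_ncard this
      rw [Set.ncard_univ, card_centQB M hp hp2 hb hbg D, hN] at h1
      have h2 : ({1, zA} : Set (centQB Q b)).ncard ≤ 2 := (Set.ncard_insert_le _ _).trans (by rw [Set.ncard_singleton])
      have h3 : 2 ^ 1 ≤ 2 ^ (2 * w) := Nat.pow_le_pow_right (by norm_num) (by omega)
      omega
  have hC : Subgroup.centralizer (R : Set (Subgroup.centralizer ({z'} : Set (H ⧸ NB)))) ≤ R := by
    intro d hd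
    obtain ⟨c, rfl⟩ := hφsurj d
    rw [hRker, MonoidHom.mem_ker, hΘ']
    obtain ⟨a, ha⟩ := htoC1 (θ c)
    show π' (θ c) = 1
    rw [← ha, hπ']
    refine D.faithful a fun i => ?_
    obtain ⟨x, hx⟩ := QuotientGroup.mk_surjective (ψ (D.r i))
    have hxb : x ∈ centQB Q b := (mem_centQB_iff M hp hp2 hb hbg hx.symm).2 (D.fixed i)
    have hcom : φ c * χ ⟨x, hxb⟩ = χ ⟨x, hxb⟩ * φ c :=
      (Subgroup.mem_centralizer_iff.1 hd _ ⟨⟨x, hxb⟩, rfl⟩).symm
    have h1 : φ (c * incQ b ⟨x, hxb⟩ * c⁻¹ * (incQ b ⟨x, hxb⟩)⁻¹) = 1 := by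
      show φ _ = 1
      rw [map_mul, map_mul, map_mul, map_inv, map_inv]
      show φ c * χ ⟨x, hxb⟩ * (φ c)⁻¹ * (χ ⟨x, hxb⟩)⁻¹ = 1
      rw [hcom, mul_inv_cancel_right, mul_inv_cancel]
    have h2 : cj (c : Subgroup.centralizer ({z} : Set G)) x * x⁻¹ = 1 := hQB _ ((hφ1 _).1 h1)
    rw [mul_inv_eq_one] at h2
    have h3 := M.hψ.2.2.2 (c : Subgroup.centralizer ({z} : Set G)) a
      (congrArg Subtype.val ha) (D.r i) x hx.symm
    change ψ ((a : Co0) • D.r i) = QuotientGroup.mk (cj (c : Subgroup.centralizer ({z} : Set G)) x) at h3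
    rw [h2, hx] at h3
    exact (M.map_eq_iff _ _).1 h3
  have hz' : orderOf z' = 2 := by
    refine orderOf_eq_prime ?_ fun h => ?_
    · rw [pow_two, ← QuotientGroup.mk_mul, show (⟨z, hzH⟩ : H) * ⟨z, hzH⟩ = 1 from Subtype.ext M.zz_eq, QuotientGroup.mk_one]
    · exact hc1 (Subtype.ext (Subtype.ext h))
  have hsb : s ∈ centQB Q b := Subgroup.mem_centralizer_singleton_iff.2 (Subtype.ext (by
    show ((s : Subgroup.centralizer ({z} : Set G)) : G) * b = b * _
    rw [← hgs]
    have h1 := (hmemH g).1 hg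
    have h2 := (hmemH z).1 hzH
    have h3 : (g : G)⁻¹ * b = b * g⁻¹ := (Commute.inv_left h1).eq
    calc g * z * g⁻¹ * b = g * (z * (g⁻¹ * b)) := by group
      _ = g * (z * b) * g⁻¹ := by rw [h3]; group
      _ = g * b * z * g⁻¹ := by rw [h2]; group
      _ = b * g * z * g⁻¹ := by rw [h1]
      _ = b * (g * z * g⁻¹) := by group
      _ = _ := by rw [hgs]; rfl))
  have hgs' : (QuotientGroup.mk (⟨g, hg⟩ : H) : H ⧸ NB) * z' * (QuotientGroup.mk (⟨g, hg⟩ : H))⁻¹ =
      ((χ ⟨s, hsb⟩ : Subgroup.centralizer ({z'} : Set (H ⧸ NB))) : H ⧸ NB) := by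
    rw [← QuotientGroup.mk_inv, ← QuotientGroup.mk_mul, ← QuotientGroup.mk_mul]
    exact congrArg QuotientGroup.mk (Subtype.ext hgs)
  have hne : (QuotientGroup.mk (⟨g, hg⟩ : H) : H ⧸ NB) * z' * (QuotientGroup.mk (⟨g, hg⟩ : H))⁻¹ ≠ z' := by
    rw [hgs']
    intro h
    exact hs (congrArg Subtype.val (hχinj (Subtype.ext h : χ ⟨s, hsb⟩ = χ zA)))
  refine ⟨z', R, hRn, ⟨hz', generalizedFitting_eq e' hL hRp hC, hex, hcardR, _, ⟨?_, ?_⟩, hne⟩,
    ⟨e'⟩, ⟨hzH, rfl⟩, fun x => ?_⟩
  · rw [hgs']; exact SetLike.coe_mem _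
  · exact ⟨⟨s, hsb⟩, Subtype.ext hgs'.symm⟩
  · constructor
    · rintro ⟨q, rfl⟩
      exact ⟨q, q.2, _, rfl⟩
    · rintro ⟨q, hq, hqH, hx⟩
      exact ⟨⟨q, hq⟩, Subtype.ext hx.symm⟩

omit M hp hp2 hb hbg hg0 D in
/-- A power of an element moving `z` inside `⟨z, s⟩` that normalizes `B` centralizes `B`. -/
theorem pow_pred_mem_centralizer {B : Subgroup G} {p : ℕ} (hp : p.Prime) (hB : Nat.card B = p) {a : G}
    (ha : ∀ x ∈ B, a * x * a⁻¹ ∈ B) : a ^ (p - 1) ∈ Subgroup.centralizer (B : Set G) := by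
  haveI : Fact p.Prime := ⟨hp⟩
  obtain ⟨x, hx⟩ : IsCyclic B := isCyclic_of_prime_card hB
  obtain ⟨k, hk⟩ := hx ⟨_, ha x x.2⟩
  have hk' : (x : G) ^ k = a * x * a⁻¹ := congrArg Subtype.val hk
  have hn : ∀ n : ℕ, a ^ n * x * (a ^ n)⁻¹ = (x : G) ^ (k ^ n) := by
    intro n
    induction n with
    | zero => simp
    | succ n ih =>
      calc a ^ (n + 1) * x * (a ^ (n + 1))⁻¹ = a * (a ^ n * x * (a ^ n)⁻¹) * a⁻¹ := by group
        _ = (a * x * a⁻¹) ^ (k ^ n) := by rw [ih, conj_zpow]
        _ = _ := by rw [← hk', ← zpow_mul, pow_succ']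
  have hxp : (x : G) ^ (p : ℤ) = 1 := by
    rw [zpow_natCast, ← hB, ← SubmonoidClass.coe_pow, pow_card_eq_one', OneMemClass.coe_one]
  have hx1 : (x : G) ≠ 1 := by
    intro h
    have : ∀ y : B, y = 1 := fun y => by
      obtain ⟨j, rfl⟩ := hx y
      obtain rfl : x = 1 := Subtype.ext h
      exact one_zpow j
    have : Subsingleton B := ⟨fun u v => (this u).trans (this v).symm⟩
    rw [Nat.card_of_subsingleton (1 : B)] at hB
    exact hp.one_lt.ne hB
  have hkp : (k : ZMod p) ≠ 0 := by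
    intro h
    obtain ⟨j, hj⟩ := (ZMod.intCast_zmod_eq_zero_iff_dvd k p).1 h
    rw [hj, zpow_mul, hxp, one_zpow] at hk'
    exact hx1 (by rw [eq_comm, mul_inv_eq_one] at hk'; exact mul_left_cancel (hk'.trans (mul_one a).symm))
  have h1 : ((k ^ (p - 1) - 1 : ℤ) : ZMod p) = 0 := by
    push_cast
    rw [ZMod.pow_card_sub_one_eq_one hkp, sub_self]
  obtain ⟨j, hj⟩ := (ZMod.intCast_zmod_eq_zero_iff_dvd _ p).1 h1
  have hfix : a ^ (p - 1) * x * (a ^ (p - 1))⁻¹ = x := by
    rw [hn, eq_add_of_sub_eq hj, zpow_add, zpow_mul, hxp, one_zpow, one_mul, zpow_one]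
  rw [Subgroup.mem_centralizer_iff]
  intro y hy
  obtain ⟨i, hi⟩ := hx ⟨y, hy⟩
  have hy' : (x : G) ^ i = y := congrArg Subtype.val hi
  rw [← hy']
  exact ((show Commute (x : G) (a ^ (p - 1)) from (mul_inv_eq_iff_eq_mul.1 hfix).symm).zpow_left i).eq

end Cfsg.Agent.MonsterCent3
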