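import Cfsg.Prelude.Def_MonsterType

/-!
The wreath product of the alternating group of degree 5 by a group of order 2.
-/
set_option autoImplicit false

namespace Cfsg.Agent.MonsterCent3.HN

open Cfsg

/-- A pair of even permutations. -/
def pairPerm (a b : alternatingGroup (Fin 5)) : Equiv.Perm (Fin 5 ⊕ Fin 5) :=
  Equiv.Perm.sumCongr (a : Equiv.Perm (Fin 5)) (b : Equiv.Perm (Fin 5))

theorem pairPerm_mem (a b : alternatingGroup (Fin 5)) : pairPerm a b ∈ alternatingFiveWreathTwo :=
  Subgroup.subset_closure (Or.inl ⟨a, b, rfl⟩)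

theorem swap_mem : Equiv.sumComm (Fin 5) (Fin 5) ∈ alternatingFiveWreathTwo :=
  Subgroup.subset_closure (Or.inr rfl)

theorem swap_conj (b : alternatingGroup (Fin 5)) :
    pairPerm 1 b = (Equiv.sumComm (Fin 5) (Fin 5) : Equiv.Perm _) * pairPerm b 1 *
      (Equiv.sumComm (Fin 5) (Fin 5) : Equiv.Perm _) := by
  refine Equiv.ext fun x => ?_
  rcases x with i | i <;> simp [pairPerm]

theorem pairPerm_split (a b : alternatingGroup (Fin 5)) : pairPerm a b = pairPerm a 1 * pairPerm 1 b := by
  refine Equiv.ext fun x => ?_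
  rcases x with i | i <;> simp [pairPerm]

/-- The base group. -/
def base : Subgroup (Equiv.Perm (Fin 5 ⊕ Fin 5)) where
  carrier := {p | ∃ a b, p = pairPerm a b}
  one_mem' := ⟨1, 1, by simp [pairPerm]⟩
  mul_mem' := by
    rintro _ _ ⟨a, b, rfl⟩ ⟨c, d, rfl⟩
    exact ⟨a * c, b * d, by simp [pairPerm, Equiv.Perm.sumCongr_mul]⟩
  inv_mem' := by
    rintro _ ⟨a, b, rfl⟩
    exact ⟨a⁻¹, b⁻¹, by simp [pairPerm, Equiv.Perm.sumCongr_inv]⟩

/-- The elements of the wreath product. -/
theorem mem_cases {p : Equiv.Perm (Fin 5 ⊕ Fin 5)} (hp : p ∈ alternatingFiveWreathTwo) :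
    ∃ a b, p = pairPerm a b ∨ p = (Equiv.sumComm (Fin 5) (Fin 5) : Equiv.Perm _) * pairPerm a b := by
  let s : Equiv.Perm (Fin 5 ⊕ Fin 5) := Equiv.sumComm (Fin 5) (Fin 5)
  have hss : s * s = 1 := Equiv.ext fun x => by rcases x with i | i <;> rfl
  have hsc : ∀ a b, pairPerm a b * s = s * pairPerm b a := fun a b =>
    Equiv.ext fun x => by rcases x with i | i <;> rfl
  let W : Subgroup (Equiv.Perm (Fin 5 ⊕ Fin 5)) :=
    { carrier := {p | ∃ a b, p = pairPerm a b ∨ p = s * pairPerm a b}
      one_mem' := ⟨1, 1, Or.inl (by simp [pairPerm])⟩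
      mul_mem' := by
        have hm : ∀ a b c d, pairPerm a b * pairPerm c d = pairPerm (a * c) (b * d) := fun a b c d => by
          simp [pairPerm, Equiv.Perm.sumCongr_mul]
        rintro _ _ ⟨a, b, rfl | rfl⟩ ⟨c, d, rfl | rfl⟩
        · exact ⟨a * c, b * d, Or.inl (hm a b c d)⟩
        · refine ⟨b * c, a * d, Or.inr ?_⟩
          rw [← mul_assoc, hsc, mul_assoc, hm]
        · refine ⟨a * c, b * d, Or.inr ?_⟩
          rw [mul_assoc, hm]
        · refine ⟨b * c, a * d, Or.inl ?_⟩
          rw [mul_assoc, ← mul_assoc (pairPerm a b), hsc, mul_assoc s, hm, ← mul_assoc, hss, one_mul]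
      inv_mem' := by
        have hi : ∀ a b, (pairPerm a b)⁻¹ = pairPerm a⁻¹ b⁻¹ := fun a b => by
          simp [pairPerm, Equiv.Perm.sumCongr_inv]
        rintro _ ⟨a, b, rfl | rfl⟩
        · exact ⟨a⁻¹, b⁻¹, Or.inl (hi a b)⟩
        · refine ⟨b⁻¹, a⁻¹, Or.inr ?_⟩
          rw [mul_inv_rev, hi, inv_eq_of_mul_eq_one_right hss, hsc] }
  have hle : alternatingFiveWreathTwo ≤ W := by
    rw [alternatingFiveWreathTwo, Subgroup.closure_le]
    rintro _ (⟨a, b, rfl⟩ | rfl)
    · exact ⟨a, b, Or.inl rfl⟩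
    · exact ⟨1, 1, Or.inr (by simp [pairPerm, s])⟩
  exact hle hp

theorem card_ge : 7200 ≤ Nat.card alternatingFiveWreathTwo := by
  have h60 : Nat.card (alternatingGroup (Fin 5)) = 60 := by
    rw [Nat.card_eq_fintype_card]; decide +kernel
  have hc : Nat.card (alternatingGroup (Fin 5) × alternatingGroup (Fin 5) × Bool) = 7200 := by
    rw [Nat.card_prod, Nat.card_prod, h60, Nat.card_eq_fintype_card, Fintype.card_bool]
  rw [← hc]
  refine Nat.card_le_card_of_injective (fun q => (⟨if q.2.2 then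
      (Equiv.sumComm (Fin 5) (Fin 5) : Equiv.Perm _) * pairPerm q.1 q.2.1 else pairPerm q.1 q.2.1, ?_⟩ :
    alternatingFiveWreathTwo)) ?_
  · split_ifs
    · exact mul_mem swap_mem (pairPerm_mem _ _)
    · exact pairPerm_mem _ _
  · rintro ⟨a, b, u⟩ ⟨c, d, v⟩ h
    have h' := congrArg Subtype.val h
    have h1 := Equiv.ext_iff.1 h'
    have hl := fun i => h1 (Sum.inl i)
    have hr := fun i => h1 (Sum.inr i)
    cases u <;> cases v <;> simp [pairPerm] at hl hr
    all_goals
      simp only [Prod.mk.injEq, and_true]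
      exact ⟨Subtype.ext (Equiv.ext hl), Subtype.ext (Equiv.ext hr)⟩

/-- The wreath product has no non-trivial normal 2-subgroup. -/
theorem wreath_core (T : Subgroup alternatingFiveWreathTwo) [T.Normal] (hT : IsPGroup 2 T) : T = ⊥ := by
  haveI : IsSimpleGroup (alternatingGroup (Fin 5)) := alternatingGroup.isSimpleGroup_five
  have hns : ∀ N : Subgroup (alternatingGroup (Fin 5)), N.Normal → IsPGroup 2 N → N = ⊥ := by
    intro N hN h2
    refine (IsSimpleGroup.eq_bot_or_eq_top_of_normal N hN).resolve_right fun h => ?_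
    obtain ⟨n, hn⟩ := h2.exists_card_eq
    rw [h, Subgroup.card_top, Nat.card_eq_fintype_card,
      show Fintype.card (alternatingGroup (Fin 5)) = 60 by decide +kernel] at hn
    have h3 : 3 ∣ 2 ^ n := hn ▸ by norm_num
    have := Nat.prime_three.dvd_of_dvd_pow h3
    omega
  let i1 : alternatingGroup (Fin 5) →* alternatingFiveWreathTwo :=
    MonoidHom.mk' (fun a => ⟨pairPerm a 1, pairPerm_mem a 1⟩) fun a b =>
      Subtype.ext (by simp [pairPerm, Equiv.Perm.sumCongr_mul])
  let i2 : alternatingGroup (Fin 5) →* alternatingFiveWreathTwo :=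
    MonoidHom.mk' (fun a => ⟨pairPerm 1 a, pairPerm_mem 1 a⟩) fun a b =>
      Subtype.ext (by simp [pairPerm, Equiv.Perm.sumCongr_mul])
  have hi1 : Function.Injective i1 := fun a b h => by
    have h' := Equiv.ext_iff.1 (congrArg Subtype.val h)
    refine Subtype.ext (Equiv.ext fun i => ?_)
    have := h' (Sum.inl i)
    simpa [i1, pairPerm] using this
  have hi2 : Function.Injective i2 := fun a b h => by
    have h' := Equiv.ext_iff.1 (congrArg Subtype.val h)
    refine Subtype.ext (Equiv.ext fun i => ?_)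
    have := h' (Sum.inr i)
    simpa [i2, pairPerm] using this
  have h1 : T.comap i1 = ⊥ := hns _ inferInstance (hT.comap_of_injective i1 hi1)
  have h2 : T.comap i2 = ⊥ := hns _ inferInstance (hT.comap_of_injective i2 hi2)
  refine (Subgroup.eq_bot_iff_forall _).2 fun t ht => ?_
  obtain ⟨a, b, he | he⟩ := mem_cases t.2
  · -- an element of the base
    have key : ∀ (i : alternatingGroup (Fin 5) →* alternatingFiveWreathTwo) (c : alternatingGroup (Fin 5)),
        T.comap i = ⊥ → (∀ u, ∃ v, t * i u * t⁻¹ * (i u)⁻¹ = i v ∧ v = c * u * c⁻¹ * u⁻¹) → c = 1 := by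
      intro i c hi hu
      have hc : c ∈ Subgroup.center (alternatingGroup (Fin 5)) := by
        refine Subgroup.mem_center_iff.2 fun u => ?_
        obtain ⟨v, hv, hv'⟩ := hu u
        have hvT : v ∈ T.comap i := by
          rw [Subgroup.mem_comap, ← hv]
          have := T.mul_mem ht ((inferInstance : T.Normal).conj_mem _ (T.inv_mem ht) (i u))
          rwa [show t * (i u * t⁻¹ * (i u)⁻¹) = t * i u * t⁻¹ * (i u)⁻¹ by group] at this
        rw [hi, Subgroup.mem_bot] at hvT
        rw [hvT] at hv'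
        have := eq_mul_inv_iff_mul_eq.1 hv'
        rw [one_mul] at this
        exact (mul_inv_eq_iff_eq_mul.1 this.symm).symm
      rcases IsSimpleGroup.eq_bot_or_eq_top_of_normal (Subgroup.center (alternatingGroup (Fin 5))) inferInstance with h | h
      · rwa [h, Subgroup.mem_bot] at hc
      · exfalso
        have hna : ∃ u v : alternatingGroup (Fin 5), u * v ≠ v * u := by decide +kernel
        obtain ⟨u, v, huv⟩ := hna
        exact huv (Subgroup.mem_center_iff.1 (h ▸ Subgroup.mem_top v : v ∈ Subgroup.center _) u)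
    have ha : a = 1 := key i1 a h1 fun u => ⟨a * u * a⁻¹ * u⁻¹, Subtype.ext (by
      simp [i1, he, pairPerm, Equiv.Perm.sumCongr_inv, Equiv.Perm.sumCongr_mul]), rfl⟩
    have hb : b = 1 := key i2 b h2 fun u => ⟨b * u * b⁻¹ * u⁻¹, Subtype.ext (by
      simp [i2, he, pairPerm, Equiv.Perm.sumCongr_inv, Equiv.Perm.sumCongr_mul]), rfl⟩
    apply Subtype.ext
    rw [he, ha, hb]
    simp [pairPerm]
  · -- an element interchanging the two halves: its commutators with the first factor are in the base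
    exfalso
    obtain ⟨u, hu⟩ : ∃ u : alternatingGroup (Fin 5), u ≠ 1 := exists_ne 1
    set s : Equiv.Perm (Fin 5 ⊕ Fin 5) := Equiv.sumComm (Fin 5) (Fin 5) with hs
    set v := t * i1 u * t⁻¹ * (i1 u)⁻¹ with hv
    have hvT : v ∈ T := by
      have := T.mul_mem ht ((inferInstance : T.Normal).conj_mem _ (T.inv_mem ht) (i1 u))
      rwa [show t * (i1 u * t⁻¹ * (i1 u)⁻¹) = v by rw [hv]; group] at this
    have hvb : (v : Equiv.Perm (Fin 5 ⊕ Fin 5)) = pairPerm u⁻¹ (a * u * a⁻¹) := by
      rw [hv]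
      simp only [Subgroup.coe_mul, InvMemClass.coe_inv, he]
      refine Equiv.ext fun x => ?_
      rcases x with i | i <;> simp [i1, pairPerm, hs, Equiv.Perm.sumCongr_inv, mul_inv_rev]
    obtain ⟨c, hc⟩ : ∃ c, c * u ≠ u * c := by
      by_contra h
      push Not at h
      rcases IsSimpleGroup.eq_bot_or_eq_top_of_normal (Subgroup.center (alternatingGroup (Fin 5))) inferInstance with e | e
      · exact hu (by have := Subgroup.mem_center_iff.2 h; rwa [e, Subgroup.mem_bot] at this)
      · have hna : ∃ u v : alternatingGroup (Fin 5), u * v ≠ v * u := by decide +kernel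
        obtain ⟨x, y, hxy⟩ := hna
        exact hxy (Subgroup.mem_center_iff.1 (e ▸ Subgroup.mem_top y : y ∈ Subgroup.center _) x)
    -- conjugate the base element by the first factor
    have hcT : ((i1 c * v * (i1 c)⁻¹) * v⁻¹) ∈ T.map (MonoidHom.id _) := by
      rw [Subgroup.map_id]
      exact T.mul_mem ((inferInstance : T.Normal).conj_mem _ hvT (i1 c)) (T.inv_mem hvT)
    have heq : (i1 c * v * (i1 c)⁻¹) * v⁻¹ = i1 (c * u⁻¹ * c⁻¹ * u) := by
      apply Subtype.ext
      simp only [Subgroup.coe_mul, InvMemClass.coe_inv, hvb]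
      simp [i1, pairPerm, Equiv.Perm.sumCongr_inv, Equiv.Perm.sumCongr_mul, mul_assoc]
    rw [Subgroup.map_id, heq, ← Subgroup.mem_comap, h1, Subgroup.mem_bot] at hcT
    apply hc
    have h' : Commute c u⁻¹ := mul_inv_eq_iff_eq_mul.1 (mul_eq_one_iff_eq_inv.1 hcT)
    exact (Commute.inv_right_iff.1 h').eq

end Cfsg.Agent.MonsterCent3.HN
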