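import Cfsg.Agent.MonsterCent3.HNFixed
import Cfsg.Agent.MonsterCent3.HNWreath

/-!
The centralizer of the element of order 5 modulo that element and the centre is the wreath product
of the alternating group of degree 5 by a group of order 2.
-/
set_option autoImplicit false
set_option maxRecDepth 100000
set_option linter.style.haveILetI false

namespace Cfsg.Agent.MonsterCent3.HN

open Cfsg Cfsg.Agent.Leech
open Cfsg.Agent.SporStruct CoMatrix
open Cfsg.Agent.Golay (pt idx idx_lt pt_idx idx_pt Tab toSet mem_toSet cubeTwistTab tab_cubeTwist cubeTwist_mem inCode comb maps)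
open scoped Pointwise

/-- The centralizer. -/
abbrev C5 : Subgroup Co0 := Subgroup.centralizer ({h5} : Set Co0)

theorem smul_comm5 (g : C5) (v : leechLattice) : h5 • ((g : Co0) • v) = (g : Co0) • (h5 • v) := by
  rw [← mul_smul, ← mul_smul, Subgroup.mem_centralizer_singleton_iff.1 g.2]

theorem exists_cls (g : C5) (t : Fin 256) : ∃ u, LCong ((g : Co0) • repF t) (repF u) :=
  repF_complete (by rw [smul_comm5, repF_fixed]; exact Cong.refl _)

/-- The action on the fixed classes. -/
noncomputable def cls (g : C5) (t : Fin 256) : Fin 256 := (exists_cls g t).choose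

theorem cls_spec (g : C5) (t : Fin 256) : LCong ((g : Co0) • repF t) (repF (cls g t)) :=
  (exists_cls g t).choose_spec

theorem cls_eq {g : C5} {t u : Fin 256} (h : LCong ((g : Co0) • repF t) (repF u)) : cls g t = u :=
  repF_distinct _ _ ((Cong.symm (cls_spec g t)).trans h)

theorem cls_one (t : Fin 256) : cls 1 t = t :=
  cls_eq (by rw [OneMemClass.coe_one, one_smul]; exact Cong.refl _)

theorem cls_mul (g g' : C5) (t : Fin 256) : cls (g * g') t = cls g (cls g' t) :=
  cls_eq (by
    rw [Subgroup.coe_mul, mul_smul]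
    exact (cong_smul _ (cls_spec g' t)).trans (cls_spec g _))

theorem cls_injective (g : C5) : Function.Injective (cls g) := fun s t h => by
  have := congrArg (cls g⁻¹) h
  rwa [← cls_mul, ← cls_mul, inv_mul_cancel, cls_one, cls_one] at this

theorem rows_sign {n : ℕ} (hn : toSet n ∈ code) : rows (mono 1 hn) = sgnMat n := by
  refine range_map_congr fun i hi => range_map_congr fun k hk => ?_
  rw [coe_mono_frame]
  simp only [OneMemClass.coe_one, Equiv.Perm.coe_one, id_eq, mem_toSet, idx_pt hi, Pi.single_apply]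
  by_cases e : k = i
  · subst e; simp
  · rw [if_neg (fun h => e (by have := congrArg idx h; rwa [idx_pt hk, idx_pt hi] at this)), if_neg e]

theorem exists_permElem {l : List ℕ} (hp : Golay.isPermTab l = true) (ha : Golay.checkAut l = true) :
    ∃ g : Co0, rows g = permMat l :=
  ⟨Monster39.permHom ⟨Golay.permOf l hp, (Golay.tab_permOf hp).mem_M24 ha⟩, rows_perm _ (Golay.tab_permOf hp)⟩

theorem exists_sgnElem {n : ℕ} (hn : inCode n = true) : ∃ g : Co0, rows g = sgnMat n :=
  have h : toSet n ∈ code := Golay.mem_supports_iff.2 ⟨n, hn, rfl⟩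
  ⟨mono 1 h, rows_sign h⟩

theorem genT_elem (k : Fin 8) : ∃ g : Co0, rows g = genT.getD k [] := by
  have h := monoOK_true
  simp only [monoOK, Bool.and_eq_true, List.all_eq_true, decide_eq_true_eq] at h
  obtain ⟨⟨⟨⟨⟨⟨⟨a1, a2⟩, b1⟩, b2⟩, c1⟩, c2⟩, hs⟩, hl⟩ := h
  have hsB : ∀ i < 4, inCode (sB.getD i 0) = true := fun i hi => by
    rw [List.getD_eq_getElem _ _ (hl.symm ▸ hi)]
    exact hs _ (List.getElem_mem _)
  fin_cases k
  · exact exists_permElem a1 a2
  · exact exists_permElem b1 b2
  · exact exists_sgnElem (hsB 0 (by norm_num))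
  · exact exists_sgnElem (hsB 1 (by norm_num))
  · exact exists_sgnElem (hsB 2 (by norm_num))
  · exact exists_sgnElem (hsB 3 (by norm_num))
  · exact exists_elem map6_true map6T_true
  · exact exists_permElem c1 c2

theorem genT_spec (k : Fin 8) : ∃ g : C5, rows (g : Co0) = genT.getD k [] := by
  obtain ⟨g, hg⟩ := genT_elem k
  have h3 := genB_all k
  simp only [genB, beq_iff_eq] at h3
  refine ⟨⟨g, Subgroup.mem_centralizer_singleton_iff.2 (rows_injective ?_)⟩, hg⟩
  rw [rows_mul, rows_mul, hg, rows_h5, h3]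

/-- The generators. -/
noncomputable def gE (k : Fin 8) : C5 := (genT_spec k).choose

theorem rows_gE (k : Fin 8) : rows (gE k : Co0) = genT.getD k [] := (genT_spec k).choose_spec

theorem gE_last : ((gE 7 : C5) : Co0) = h5 :=
  rows_injective (by rw [rows_gE, rows_h5]; exact genT_last)

/-- The list of generators. -/
noncomputable def gL : List C5 := List.ofFn gE

/-- The subgroup generated by the generators. -/
def U5 : Subgroup C5 := Subgroup.closure (Set.range gE)

theorem word_mem_U5 (w : List ℕ) : word gL w ∈ U5 :=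
  word_mem (fun x hx => Subgroup.subset_closure (List.mem_ofFn' _ _ |>.1 hx)) w

theorem rows_word5 (w : List ℕ) : rows ((word gL w : C5) : Co0) = evalW genT w := by
  rw [← rows_word (gL.map (fun g : C5 => (g : Co0))) genT ?_ w]
  · show rows (C5.subtype (word gL w)) = _
    rw [map_word]
    rfl
  · have hl : genT.length = 8 := genT_length
    refine List.ext_getElem (by simp [gL, hl]) fun i h1 h2 => ?_
    simp only [gL, List.getElem_map, List.getElem_ofFn]
    rw [rows_gE]
    exact List.getD_eq_getElem _ _ h2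

theorem four_lt : ∀ t ∈ four, t < 256 := by decide +kernel

theorem cong_gE_lin (k : Fin 8) : ∀ t < 256,
    linImg k t < 256 ∧ LCong ((gE k : Co0) • rep t) (rep (linImg k t)) := by
  have hl := linB_all k
  simp only [linB, Bool.and_eq_true, List.all_eq_true, List.mem_range, decide_eq_true_eq] at hl
  obtain ⟨h00, hadd⟩ := hl
  have hi := imgB_all k
  simp only [imgB, Bool.and_eq_true, List.all_eq_true, List.mem_range, decide_eq_true_eq] at hi
  intro t
  induction t using Nat.strong_induction_on with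
  | _ t ih =>
    intro ht
    by_cases h0 : t = 0
    · subst h0
      rw [h00, (norm_rep (by norm_num : (0 : ℕ) < 256)).1 rfl, ← hom_apply, map_zero]
      exact ⟨by norm_num, Cong.refl _⟩
    · set m := t.log2 with hm
      have hm8 : m < 8 := (Nat.log2_lt h0).2 ht
      have hlt : t ^^^ 2 ^ m < 2 ^ m := xor_top_lt h0
      set t' := t ^^^ 2 ^ m with ht'
      have e1 : t' ^^^ 2 ^ m = t := by rw [ht', Nat.xor_assoc, Nat.xor_self, Nat.xor_zero]
      have htlt : t' < t := hlt.trans_le (Nat.log2_self_le h0)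
      have hp : 2 ^ m < 256 := Nat.pow_lt_pow_right (by norm_num) hm8 (n := 8)
      obtain ⟨h256, hc⟩ := ih t' htlt (htlt.trans ht)
      obtain ⟨hi256, hic⟩ := hi m hm8
      have hbas : LCong ((gE k : Co0) • rep (2 ^ m)) (rep (linImg k (2 ^ m))) := cong_of_congB (by
        rw [← mapV_rows, rows_gE, vecL_rep hp, vecL_rep hi256]
        exact hic)
      have e2 := hadd m hm8 t' hlt
      rw [e1] at e2
      refine ⟨e2 ▸ Nat.xor_lt_two_pow (n := 8) h256 hi256, ?_⟩
      have a := cong_smul (gE k : Co0) (add_top hlt hm8)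
      rw [e1, ← hom_apply, map_add, hom_apply, hom_apply] at a
      rw [← e2]
      exact (Cong.symm a).trans ((cong_add_right hc _).trans ((cong_add_left hbas _).trans
        (add_rep _ _ hi256 h256)))

theorem clsG_spec (k : Fin 8) {t : Fin 256} (ht : (t : ℕ) ∈ four) :
    (cls (gE k) t : ℕ) = clsG k t ∧ clsG k t ∈ four := by
  have h := clsB_all k
  simp only [clsB, List.all_eq_true, Bool.and_eq_true, List.contains_iff_mem, beq_iff_eq] at h
  obtain ⟨hm, he⟩ := h t ht
  refine ⟨?_, hm⟩
  have : cls (gE k) t = ⟨clsG k t, four_lt _ hm⟩ := cls_eq (by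
    show LCong ((gE k : Co0) • rep t) (rep (clsG k t))
    rw [he]
    exact (cong_gE_lin k t t.2).2)
  rw [this]

/-- The standard class. -/
def tF : Fin 256 := ⟨fF, by decide +kernel⟩

theorem tF_four : (tF : ℕ) ∈ four := by decide +kernel

theorem cls_four {g : C5} {t : Fin 256} (ht : (t : ℕ) ∈ four) : (cls g t : ℕ) ∈ four := by
  set u := cls g t with hu
  have hn : sqNorm (((g : Co0) • repF t : leechLattice) : GolayPt → ℤ) = 64 := by
    rw [sqNorm_smul]
    exact ((norm_rep t.2).2 fun e => zero_notMem_four (e ▸ ht)).1 ht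
  have he : sqNorm (((g : Co0) • repF t : leechLattice) : GolayPt → ℤ) =
      sqNorm ((rep u : leechLattice) : GolayPt → ℤ) :=
    sqNorm_eq_of_cong noRoots (SetLike.coe_mem _) hn.le (sqNorm_rep_le u.2) (hu ▸ cls_spec g t)
  rw [hn] at he
  by_contra hm
  by_cases h0 : (u : ℕ) = 0
  · rw [(norm_rep u.2).1 h0] at he; simp [sqNorm] at he
  · rcases ((norm_rep u.2).2 h0).2 hm with e | e <;> rw [e] at he <;> norm_num at he

theorem exists_orbit (t : Fin 256) (ht : (t : ℕ) ∈ four) : ∃ u ∈ U5, cls u tF = t := by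
  have h := pathOK_true
  simp only [pathOK, Bool.and_eq_true, List.all_eq_true, List.mem_range, decide_eq_true_eq,
    Bool.or_eq_true, List.any_eq_true, beq_iff_eq, List.contains_iff_mem] at h
  obtain ⟨⟨⟨-, hstep⟩, hall⟩, hpre⟩ := h
  have key : ∀ i < orbPath.length, ∃ u ∈ U5, (cls u tF : ℕ) = (orbPath.getD i (0, 0, 0)).1 := by
    intro i
    induction i using Nat.strong_induction_on with
    | _ i ih =>
      intro hi
      set e := orbPath.getD i (0, 0, 0) with he
      have hmem : e ∈ orbPath := by rw [he, List.getD_eq_getElem _ _ hi]; exact List.getElem_mem hi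
      obtain ⟨⟨hk, hs⟩, hc⟩ := hstep e hmem
      obtain ⟨u, hu, hus⟩ : ∃ u ∈ U5, (cls u tF : ℕ) = e.2.1 := by
        rcases hpre i hi with h0 | ⟨j, hj, hje⟩
        · exact ⟨1, U5.one_mem, by rw [cls_one]; exact h0.symm⟩
        · obtain ⟨u, hu, hus⟩ := ih j hj (hj.trans hi)
          exact ⟨u, hu, hus.trans hje⟩
      refine ⟨gE ⟨e.2.2, hk⟩ * u, U5.mul_mem (Subgroup.subset_closure ⟨_, rfl⟩) hu, ?_⟩
      rw [cls_mul, (clsG_spec ⟨e.2.2, hk⟩ (t := cls u tF) (hus ▸ hs)).1, hus]
      exact hc
  rcases hall t ht with h0 | ⟨e, he, het⟩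
  · exact ⟨1, U5.one_mem, by rw [cls_one]; exact Fin.ext h0.symm⟩
  · obtain ⟨i, hi, rfl⟩ := List.getElem_of_mem he
    obtain ⟨u, hu, hus⟩ := key i hi
    refine ⟨u, hu, Fin.ext ?_⟩
    rw [hus, List.getD_eq_getElem _ _ hi]
    exact het

theorem cong_rep_frame : LCong (repF tF) (frame none) := by
  refine cong_of_congB ?_
  show congB (vecL ((rep fF : leechLattice) : GolayPt → ℤ)) _ = true
  rw [vecL_rep (t := fF) tF.2, show vecL ((frame none : leechLattice) : GolayPt → ℤ) =
    ((List.range 24).map fun i => if i = 23 then (8 : ℤ) else 0) from by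
      show vecL (Pi.single none 8) = _
      decide +kernel]
  exact frameOK_true

theorem stab_form {g : C5} (hg : cls g tF = tF) :
    ∃ (a : Fin 16) (b : Fin 12) (k : Fin 5),
      g = word gL (sgnTab.getD a (0, [])).2 * word gL (pairTab.getD b ([], [])).2 * gE 7 ^ (k : ℕ) := by
  classical
  have h1 : LCong ((g : Co0) • frame none) (frame none) := by
    have h2 := cls_spec g tF
    rw [hg] at h2
    exact (cong_smul _ (Cong.symm cong_rep_frame)).trans (h2.trans cong_rep_frame)
  have hst : ∀ v : leechLattice, (v : GolayPt → ℤ) ∈ stdCross →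
      (((g : Co0) • v : leechLattice) : GolayPt → ℤ) ∈ stdCross := by
    intro v hv
    rw [← stdCross_eq_class] at hv ⊢
    refine ⟨SetLike.coe_mem _, (sqNorm_smul _ v).trans hv.2.1, ?_⟩
    exact (Cong.symm h1).trans (cong_smul _ hv.2.2)
  obtain ⟨σ, c, hc, hgσ⟩ := exists_eq_mono hst
  have hcomm : (g : Co0) * h5 = h5 * g := Subgroup.mem_centralizer_singleton_iff.1 g.2
  have hfix : σ * s5 = s5 * σ ∧ c = s5.1 • c := by
    have hc' : s5.1 • c ∈ code := by
      have : s5.1 • code = code := MulAction.mem_stabilizer_iff.1 s5.2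
      rw [← this]; exact Set.smul_mem_smul_set hc
    rw [hgσ] at hcomm
    change mono σ hc * mono s5 empty_mem_code = mono s5 empty_mem_code * mono σ hc at hcomm
    rw [Monster39.mono_mul_mono hc empty_mem_code hc
        (by rw [Finset.smul_finset_empty, ← Finset.bot_eq_empty, symmDiff_bot]),
      Monster39.mono_mul_mono empty_mem_code hc hc'
        (by rw [← Finset.bot_eq_empty, bot_symmDiff])] at hcomm
    exact mono_injective hcomm
  -- the sign change
  obtain ⟨n, hn, hnc⟩ := Golay.mem_supports_iff.1 hc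
  have hsg := sgnOK_true
  simp only [sgnOK, Bool.and_eq_true, List.all_eq_true, List.mem_range, decide_eq_true_eq, Bool.or_eq_true,
    List.any_eq_true, beq_iff_eq, Bool.not_eq_true'] at hsg
  obtain ⟨⟨hsgn, hlen⟩, hcov⟩ := hsg
  have hmaps : maps cubeTwistTab n n = true := by
    simp only [maps, List.all_eq_true, List.mem_range, beq_iff_eq]
    intro i hi
    have h3 : s5.1 (pt i) ∈ s5.1 • toSet n ↔ pt i ∈ toSet n := Finset.smul_mem_smul_finset_iff s5.1
    rw [hnc, ← hfix.2, ← hnc, mem_toSet, mem_toSet, idx_pt hi] at h3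
    show n.testBit (cubeTwistTab.getD i 0) = n.testBit i
    rw [← tab_cubeTwist i hi]
    exact Bool.eq_iff_iff.2 h3
  have hcomb : comb (n % 4096) = n := beq_iff_eq.1 hn
  obtain ⟨⟨n', w⟩, hw, hnn⟩ : ∃ e ∈ sgnTab, e.1 = n := by
    rcases hcov (n % 4096) (Nat.mod_lt _ (by norm_num)) with h4 | ⟨e, he, he'⟩
    · rw [hcomb, hmaps] at h4; simp at h4
    · exact ⟨e, he, he'.trans hcomb⟩
  simp only at hnn
  subst hnn
  obtain ⟨a, ha, hae⟩ := List.getElem_of_mem hw
  have hcode : toSet n' ∈ code := hnc ▸ hc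
  have hsw : ((word gL w : C5) : Co0) = mono 1 hcode :=
    rows_injective (by rw [rows_word5, rows_sign]; exact (hsgn _ hw).2)
  -- the permutation
  have hs5 : σ.1 * cubeTwist = cubeTwist * σ.1 := congrArg Subtype.val hfix.1
  have hi := (CentFive.fixed_image hs5 (i := 23) (by norm_num)).1 (by simp)
  have hj := (CentFive.fixed_image hs5 (i := 0) (by norm_num)).1 (by simp)
  have hij : idx (σ.1 (pt 23)) ≠ idx (σ.1 (pt 0)) := fun h =>
    absurd (σ.1.injective (Golay.idx_injective h)) (by decide)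
  have hp := pairOK_true
  simp only [pairOK, Bool.and_eq_true, List.all_eq_true, Bool.or_eq_true, decide_eq_true_eq,
    List.any_eq_true, beq_iff_eq] at hp
  obtain ⟨hptab, hpcov⟩ := hp
  obtain ⟨⟨l, w'⟩, hl, hl23, hl0⟩ := (hpcov _ hi _ hj).resolve_left hij
  obtain ⟨⟨hperm, haut⟩, hev⟩ := hptab _ hl
  obtain ⟨b, hb, hbe⟩ := List.getElem_of_mem hl
  let τ : M24 := ⟨Golay.permOf l hperm, (Golay.tab_permOf hperm).mem_M24 haut⟩
  have hτw : ((word gL w' : C5) : Co0) = Monster39.permHom τ :=
    rows_injective (by rw [rows_word5, rows_perm τ (Golay.tab_permOf hperm)]; exact hev)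
  have hτc : τ * s5 = s5 * τ := by
    have h6 := Subgroup.mem_centralizer_singleton_iff.1 (word gL w').2
    rw [hτw, h5, ← map_mul, ← map_mul] at h6
    exact (mono_injective h6).1
  have hz : (τ⁻¹ * σ) * s5 = s5 * (τ⁻¹ * σ) :=
    ((show Commute τ s5 from hτc).inv_left.mul_left (show Commute σ s5 from hfix.1)).eq
  have hz23 : (τ⁻¹ * σ).1 none = none := by
    show (Golay.permOf l hperm).symm (σ.1 (pt 23)) = pt 23
    rw [Equiv.symm_apply_eq, (Golay.tab_permOf hperm).apply, idx_pt (by norm_num : 23 < 24), hl23, pt_idx]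
  have hz0 : (τ⁻¹ * σ).1 (some 0) = some 0 := by
    show (Golay.permOf l hperm).symm (σ.1 (pt 0)) = pt 0
    rw [Equiv.symm_apply_eq, (Golay.tab_permOf hperm).apply, idx_pt (by norm_num : 0 < 24), hl0, pt_idx]
  have hpow := CentFive.centraliser_five (τ⁻¹ * σ).2 hz23 hz0 (congrArg Subtype.val hz)
  obtain ⟨m, hm⟩ := Subgroup.mem_zpowers_iff.1 hpow
  have hσ : σ = τ * s5 ^ (m % 5).toNat := by
    have h7 : s5 ^ m = τ⁻¹ * σ := Subtype.ext (by rw [SubgroupClass.coe_zpow]; exact hm)
    have h8 : s5 ^ ((m % 5).toNat : ℤ) = s5 ^ m := by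
      rw [Int.toNat_of_nonneg (Int.emod_nonneg _ (by norm_num))]
      conv_rhs => rw [← Int.emod_add_mul_ediv m 5, zpow_add, zpow_mul,
        show s5 ^ (5 : ℤ) = 1 from s5_pow, one_zpow, mul_one]
    rw [← zpow_natCast, h8, h7, mul_inv_cancel_left]
  have hk5 : (m % 5).toNat < 5 := by
    have := Int.emod_lt_of_pos m (by norm_num : (0 : ℤ) < 5)
    omega
  have hb12 : b < 12 := lt_of_lt_of_eq hb (by decide +kernel)
  refine ⟨⟨a, hlen ▸ ha⟩, ⟨b, hb12⟩, ⟨_, hk5⟩, Subtype.ext ?_⟩
  rw [List.getD_eq_getElem _ _ ha, hae, List.getD_eq_getElem _ _ hb, hbe, Subgroup.coe_mul,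
    Subgroup.coe_mul, SubmonoidClass.coe_pow, hsw, hτw, gE_last, h5, ← map_pow, mul_assoc, ← map_mul, ← hσ, hgσ]
  show mono σ hc = mono 1 hcode * mono σ empty_mem_code
  rw [Monster39.mono_mul_mono hcode empty_mem_code hc (by rw [hnc, Finset.smul_finset_empty, ← Finset.bot_eq_empty, symmDiff_bot]), one_mul]

/-- Every element in normal form. -/
theorem normal_form (g : C5) :
    g ∈ U5 ∧ ∃ (t : {t : Fin 256 // (t : ℕ) ∈ four}) (a : Fin 16) (b : Fin 12) (k : Fin 5),
      g = (exists_orbit t.1 t.2).choose *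
        (word gL (sgnTab.getD a (0, [])).2 * word gL (pairTab.getD b ([], [])).2 * gE 7 ^ (k : ℕ)) := by
  set t : {t : Fin 256 // (t : ℕ) ∈ four} := ⟨cls g tF, cls_four tF_four⟩
  obtain ⟨hu, hus⟩ := (exists_orbit t.1 t.2).choose_spec
  set u := (exists_orbit t.1 t.2).choose
  have hg : cls (u⁻¹ * g) tF = tF := by
    rw [cls_mul, show cls g tF = cls u tF from hus.symm, ← cls_mul, inv_mul_cancel, cls_one]
  obtain ⟨a, b, k, hs⟩ := stab_form hg
  have e : g = u * (word gL (sgnTab.getD a (0, [])).2 * word gL (pairTab.getD b ([], [])).2 * gE 7 ^ (k : ℕ)) := by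
    rw [← hs, mul_inv_cancel_left]
  refine ⟨?_, t, a, b, k, e⟩
  rw [e]
  exact U5.mul_mem hu (U5.mul_mem (U5.mul_mem (word_mem_U5 _) (word_mem_U5 _))
    (U5.pow_mem (Subgroup.subset_closure ⟨7, rfl⟩) _))

theorem card_C5 : Nat.card C5 ≤ 72000 := by
  have h75 : Nat.card {t : Fin 256 // (t : ℕ) ∈ four} = 75 := by
    rw [Nat.card_eq_fintype_card]; decide +kernel
  have hc : Nat.card ({t : Fin 256 // (t : ℕ) ∈ four} × Fin 16 × Fin 12 × Fin 5) = 72000 := by
    rw [Nat.card_prod, Nat.card_prod, Nat.card_prod, h75, Nat.card_fin, Nat.card_fin, Nat.card_fin]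
  rw [← hc]
  refine Nat.card_le_card_of_surjective (fun q => (exists_orbit q.1.1 q.1.2).choose *
    (word gL (sgnTab.getD q.2.1 (0, [])).2 * word gL (pairTab.getD q.2.2.1 ([], [])).2 * gE 7 ^ (q.2.2.2 : ℕ))) ?_
  intro g
  obtain ⟨t, a, b, k, e⟩ := (normal_form g).2
  exact ⟨⟨t, a, b, k⟩, e.symm⟩

/-- A letter as a number. -/
def num : Fin 5 ⊕ Fin 5 → ℕ
  | .inl i => i
  | .inr i => 5 + i

theorem num_lt : ∀ j, num j < 10 := by decide +kernel

theorem num_injective : Function.Injective num := by decide +kernel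

/-- A subspace. -/
def tenF (j : Fin 5 ⊕ Fin 5) : Finset (Fin 256) :=
  Finset.univ.filter fun t => (t : ℕ) ∈ ten.getD (num j) []

theorem card_tenF : ∀ j, (tenF j).card = 15 := by decide +kernel

theorem tenF_injective : Function.Injective tenF := by
  intro i j h
  by_contra hne
  have hc := tenOK_true
  simp only [tenOK, Bool.and_eq_true, List.all_eq_true, List.mem_range, decide_eq_true_eq,
    Bool.or_eq_true, List.any_eq_true, Bool.not_eq_true', List.contains_iff_mem] at hc
  obtain ⟨⟨⟨hlen, h4⟩, hd⟩, -⟩ := hc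
  rcases hd _ (num_lt i) _ (num_lt j) with e | ⟨t, ht, htj⟩
  · exact hne (num_injective e)
  · have hlt : t < 256 := four_lt t (h4 _ (by
      rw [List.getD_eq_getElem _ _ (hlen.symm ▸ num_lt i)]; exact List.getElem_mem _) t ht)
    have h1 : (⟨t, hlt⟩ : Fin 256) ∈ tenF i := Finset.mem_filter.2 ⟨Finset.mem_univ _, ht⟩
    rw [h] at h1
    have h2 := (Finset.mem_filter.1 h1).2
    exact (Bool.eq_false_iff.1 htj) (List.contains_iff_mem.2 h2)

/-- `g` moves the subspaces as `p` moves the letters. -/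
def TenOK (g : C5) (p : Equiv.Perm (Fin 5 ⊕ Fin 5)) : Prop :=
  ∀ j, (tenF j).image (cls g) = tenF (p j)

theorem TenOK.unique {g : C5} {p q : Equiv.Perm (Fin 5 ⊕ Fin 5)} (hp : TenOK g p) (hq : TenOK g q) :
    p = q := Equiv.ext fun j => tenF_injective ((hp j).symm.trans (hq j))

theorem TenOK.mul {g g' : C5} {p q : Equiv.Perm (Fin 5 ⊕ Fin 5)} (hp : TenOK g p) (hq : TenOK g' q) :
    TenOK (g * g') (p * q) := fun j => by
  rw [show cls (g * g') = cls g ∘ cls g' from funext (cls_mul g g'), ← Finset.image_image, hq j, hp]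
  rfl

theorem TenOK.one : TenOK 1 1 := fun j => by
  rw [show cls 1 = id from funext cls_one, Finset.image_id]
  rfl

theorem genPerm_spec : ∀ k : Fin 8, ∃ s : Bool,
    (∃ a : Equiv.Perm (Fin 5), Equiv.Perm.sign a = 1 ∧
      ∀ i : Fin 5, (genPerm.getD k []).getD i 0 = (if s then 5 else 0) + (a i : ℕ)) ∧
    (∃ b : Equiv.Perm (Fin 5), Equiv.Perm.sign b = 1 ∧
      ∀ i : Fin 5, (genPerm.getD k []).getD (5 + i) 0 = (if s then 0 else 5) + (b i : ℕ)) := by
  decide +kernel

theorem exists_gen (k : Fin 8) : ∃ p ∈ alternatingFiveWreathTwo, TenOK (gE k) p ∧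
    ∀ j, num (p j) = (genPerm.getD k []).getD (num j) 0 := by
  obtain ⟨s, ⟨a, ha, hav⟩, ⟨b, hb, hbv⟩⟩ := genPerm_spec k
  set q := pairPerm ⟨a, Equiv.Perm.mem_alternatingGroup.2 ha⟩ ⟨b, Equiv.Perm.mem_alternatingGroup.2 hb⟩ with hq
  set p := if s then (Equiv.sumComm (Fin 5) (Fin 5) : Equiv.Perm _) * q else q with hp
  have hnum : ∀ j, num (p j) = (genPerm.getD k []).getD (num j) 0 := by
    intro j
    rw [hp]
    rcases j with i | i <;> cases s
    · simpa [hq, pairPerm, num] using (hav i).symm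
    · simpa [hq, pairPerm, num] using (hav i).symm
    · simpa [hq, pairPerm, num] using (hbv i).symm
    · simpa [hq, pairPerm, num] using (hbv i).symm
  refine ⟨p, ?_, fun j => ?_, hnum⟩
  · rw [hp]
    split_ifs
    · exact mul_mem swap_mem (pairPerm_mem _ _)
    · exact pairPerm_mem _ _
  · refine Finset.eq_of_subset_of_card_le (fun t ht => ?_) ?_
    · obtain ⟨u, hu, rfl⟩ := Finset.mem_image.1 ht
      have hu' := (Finset.mem_filter.1 hu).2
      have hc := tenOK_true
      simp only [tenOK, Bool.and_eq_true, List.all_eq_true, List.mem_range, decide_eq_true_eq,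
        List.contains_iff_mem] at hc
      obtain ⟨⟨⟨hlen, h4⟩, -⟩, hgen⟩ := hc
      have hu4 : (u : ℕ) ∈ four := h4 _ (by
        rw [List.getD_eq_getElem _ _ (hlen.symm ▸ num_lt j)]; exact List.getElem_mem _) _ hu'
      refine Finset.mem_filter.2 ⟨Finset.mem_univ _, ?_⟩
      rw [hnum, (clsG_spec k hu4).1]
      exact (hgen k k.2 _ (num_lt j)).2 _ hu'
    · rw [Finset.card_image_of_injective _ (cls_injective _), card_tenF, card_tenF]

/-- Every element permutes the ten subspaces as an element of the wreath product. -/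
theorem exists_ten (g : C5) : ∃ p ∈ alternatingFiveWreathTwo, TenOK g p := by
  let W : Subgroup C5 :=
    { carrier := {g | ∃ p ∈ alternatingFiveWreathTwo, TenOK g p}
      one_mem' := ⟨1, one_mem _, TenOK.one⟩
      mul_mem' := by
        rintro g g' ⟨p, hp, h⟩ ⟨q, hq, h'⟩
        exact ⟨p * q, mul_mem hp hq, h.mul h'⟩
      inv_mem' := by
        rintro g ⟨p, hp, h⟩
        refine ⟨p⁻¹, inv_mem hp, fun j => ?_⟩
        have h1 := h (p⁻¹ j)
        rw [Equiv.Perm.coe_inv, Equiv.apply_symm_apply] at h1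
        rw [Equiv.Perm.coe_inv, ← h1, Finset.image_image,
          show cls g⁻¹ ∘ cls g = id from funext fun t => by
            show cls g⁻¹ (cls g t) = t
            rw [← cls_mul, inv_mul_cancel, cls_one], Finset.image_id] }
  refine (Subgroup.closure_le W).2 ?_ (normal_form g).1
  rintro _ ⟨k, rfl⟩
  obtain ⟨p, hp, h, -⟩ := exists_gen k
  exact ⟨p, hp, h⟩

/-- The map onto the wreath product. -/
noncomputable def pi5 : C5 →* alternatingFiveWreathTwo :=
  MonoidHom.mk' (fun g => ⟨(exists_ten g).choose, (exists_ten g).choose_spec.1⟩) fun g g' =>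
    Subtype.ext ((exists_ten (g * g')).choose_spec.2.unique
      ((exists_ten g).choose_spec.2.mul (exists_ten g').choose_spec.2))

theorem pi5_spec (g : C5) : TenOK g (pi5 g : Equiv.Perm (Fin 5 ⊕ Fin 5)) := (exists_ten g).choose_spec.2

theorem num_pi5_gE (k : Fin 8) (j : Fin 5 ⊕ Fin 5) :
    num ((pi5 (gE k) : Equiv.Perm (Fin 5 ⊕ Fin 5)) j) = (genPerm.getD k []).getD (num j) 0 := by
  obtain ⟨p, -, h, hn⟩ := exists_gen k
  rw [(pi5_spec (gE k)).unique h]
  exact hn j

theorem num_pi5_word : ∀ (w : List ℕ), (∀ k ∈ w, k < 8) → ∀ j,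
    num ((pi5 (word gL w) : Equiv.Perm (Fin 5 ⊕ Fin 5)) j) = (evP w).getD (num j) 0 := by
  intro w
  induction w with
  | nil =>
    intro _ j
    rw [word, List.map_nil, List.prod_nil, map_one, evP, List.foldr_nil,
      List.getD_eq_getElem _ _ (by simpa using num_lt j), List.getElem_range]
    rfl
  | cons k w ih =>
    intro hw j
    have hk : k < 8 := hw k List.mem_cons_self
    have hlen : ∀ v : List ℕ, (evP v).length = 10 := by
      intro v
      induction v with
      | nil => rfl
      | cons a v ihv => simpa [evP] using ihv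
    rw [show word gL (k :: w) = gL.getD k 1 * word gL w from List.prod_cons, map_mul, Subgroup.coe_mul,
      Equiv.Perm.mul_apply, show gL.getD k 1 = gE ⟨k, hk⟩ from by
        rw [List.getD_eq_getElem _ _ (by simpa [gL] using hk)]; exact List.getElem_ofFn _,
      num_pi5_gE, ih fun i hi => hw i (List.mem_cons_of_mem _ hi)]
    show _ = ((evP w).map fun j => (genPerm.getD k []).getD j 0).getD (num j) 0
    rw [List.getD_eq_getElem (l := (evP w).map _) _ (by rw [List.length_map, hlen]; exact num_lt j),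
      List.getElem_map, List.getD_eq_getElem (l := evP w) (d := 0) (by rw [hlen]; exact num_lt j)]

theorem a5_cover : ∀ a : Equiv.Perm (Fin 5), Equiv.Perm.sign a = 1 →
    ∃ e ∈ a5Tab, e.1 = (List.finRange 5).map fun i => (a i : ℕ) := by decide +kernel

theorem pi5_surjective : Function.Surjective pi5 := by
  have hw := wordsOK_true
  simp only [wordsOK, Bool.and_eq_true, List.all_eq_true, decide_eq_true_eq, beq_iff_eq] at hw
  obtain ⟨⟨h5w, hsw⟩, hswv⟩ := hw
  have hswap : (⟨_, swap_mem⟩ : alternatingFiveWreathTwo) ∈ pi5.range := by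
    refine ⟨word gL swapW, Subtype.ext (Equiv.ext fun j => num_injective ?_)⟩
    rw [num_pi5_word _ hsw, hswv]
    rcases j with i | i <;> fin_cases i <;> rfl
  have hl : ∀ a : alternatingGroup (Fin 5), (⟨_, pairPerm_mem a 1⟩ : alternatingFiveWreathTwo) ∈ pi5.range := by
    intro a
    obtain ⟨e, he, hea⟩ := a5_cover a (Equiv.Perm.mem_alternatingGroup.1 a.2)
    obtain ⟨hk, hev⟩ := h5w e he
    refine ⟨word gL e.2, Subtype.ext (Equiv.ext fun j => num_injective ?_)⟩
    rw [num_pi5_word _ hk, hev, hea]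
    rcases j with i | i
    · fin_cases i <;> rfl
    · fin_cases i <;> rfl
  intro p
  have hall : ∀ x : Equiv.Perm (Fin 5 ⊕ Fin 5), ∀ hx : x ∈ alternatingFiveWreathTwo,
      (⟨x, hx⟩ : alternatingFiveWreathTwo) ∈ pi5.range := by
    intro x hx
    obtain ⟨a, b, hab⟩ := mem_cases hx
    have hr : (⟨_, pairPerm_mem a b⟩ : alternatingFiveWreathTwo) ∈ pi5.range := by
      have : (⟨_, pairPerm_mem a b⟩ : alternatingFiveWreathTwo) =
          ⟨_, pairPerm_mem a 1⟩ * (⟨_, swap_mem⟩ * ⟨_, pairPerm_mem b 1⟩ * ⟨_, swap_mem⟩) :=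
        Subtype.ext (show pairPerm a b = pairPerm a 1 * (Equiv.sumComm (Fin 5) (Fin 5) * pairPerm b 1 *
          Equiv.sumComm (Fin 5) (Fin 5)) by rw [← swap_conj]; exact pairPerm_split a b)
      rw [this]
      exact mul_mem (hl a) (mul_mem (mul_mem hswap (hl b)) hswap)
    rcases hab with rfl | rfl
    · exact hr
    · exact mul_mem hswap hr
  exact hall p.1 p.2

theorem negOne_mem_C5 : negOne ∈ C5 :=
  Subgroup.mem_centralizer_singleton_iff.2 (Subgroup.mem_center_iff.1 negOne_mem_center h5).symm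

theorem negOne_sq' : negOne * negOne = 1 := ext_frame fun i => by
  rw [mul_smul, negOne_smul, negOne_smul, neg_neg, one_smul]

theorem pi5_center (g : C5) (hg : (g : Co0) ∈ Subgroup.center Co0) : pi5 g = 1 := by
  have h2 : g * g = 1 := by
    apply Subtype.ext
    rcases center_eq_or _ hg with e | e <;> simp [e, negOne_sq']
  have hcen : ∀ x, pi5 g * x = x * pi5 g := fun x => by
    obtain ⟨u, rfl⟩ := pi5_surjective x
    rw [← map_mul, ← map_mul]
    exact congrArg pi5 (Subtype.ext (Subgroup.mem_center_iff.1 hg u).symm)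
  haveI : (Subgroup.zpowers (pi5 g)).Normal := ⟨fun y hy x => by
    obtain ⟨k, rfl⟩ := Subgroup.mem_zpowers_iff.1 hy
    rw [((show Commute (pi5 g) x from hcen x).zpow_left k).symm.eq, mul_inv_cancel_right]
    exact zpow_mem (Subgroup.mem_zpowers _) k⟩
  have hp : IsPGroup 2 (Subgroup.zpowers (pi5 g)) := by
    intro y
    refine ⟨1, Subtype.ext ?_⟩
    obtain ⟨k, hk⟩ := Subgroup.mem_zpowers_iff.1 y.2
    rw [SubmonoidClass.coe_pow, ← hk, pow_one, ← zpow_natCast, ← zpow_mul, mul_comm, zpow_mul, zpow_natCast,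
      pow_two, ← map_mul, h2, map_one, one_zpow]
    rfl
  exact Subgroup.zpowers_eq_bot.1 (wreath_core _ hp)

theorem pi5_h5 : pi5 (gE 7) = 1 := by
  refine Subtype.ext (Equiv.ext fun j => num_injective ?_)
  rw [num_pi5_gE]
  rcases j with i | i <;> fin_cases i <;> rfl

theorem pi5_ker (g : C5) (hg : pi5 g = 1) :
    (QuotientGroup.mk (g : Co0) : Spor.Co1) ∈ Subgroup.zpowers (QuotientGroup.mk h5 : Spor.Co1) := by
  haveI := Monster39.finiteCo0
  set nC : C5 := ⟨negOne, negOne_mem_C5⟩ with hn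
  set y : C5 := gE 7 * nC with hy
  have hc : Commute (gE 7) nC := Subtype.ext (Subgroup.mem_center_iff.1 negOne_mem_center _)
  have ho5 : orderOf (gE 7) = 5 := by
    rw [← Subgroup.orderOf_coe, gE_last, h5,
      orderOf_injective Monster39.permHom (fun a b h => (mono_injective h).1) s5, orderOf_s5]
  have ho2 : orderOf nC = 2 := by
    rw [← Subgroup.orderOf_coe]
    exact orderOf_eq_prime (by rw [pow_two]; exact negOne_sq') negOne_ne_one
  have hyo : orderOf y = 10 := by
    rw [hy, hc.orderOf_mul_eq_mul_orderOf_of_coprime (by rw [ho5, ho2]; norm_num), ho5, ho2]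
  have hle : Subgroup.zpowers y ≤ pi5.ker := Subgroup.zpowers_le.2 (by
    rw [MonoidHom.mem_ker, hy, map_mul, pi5_h5, pi5_center nC negOne_mem_center, one_mul])
  have hker : pi5.ker = Subgroup.zpowers y := by
    refine (Subgroup.eq_of_le_of_card_ge hle ?_).symm
    rw [Nat.card_zpowers, hyo]
    have h1 := Subgroup.card_eq_card_quotient_mul_card_subgroup pi5.ker
    rw [Nat.card_congr (QuotientGroup.quotientKerEquivOfSurjective pi5 pi5_surjective).toEquiv] at h1
    have h2 := card_C5
    have h3 := card_ge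
    by_contra h4
    have : 7200 * 11 ≤ Nat.card alternatingFiveWreathTwo * Nat.card pi5.ker :=
      Nat.mul_le_mul h3 (by omega)
    omega
  have hgy : g ∈ Subgroup.zpowers y := hker ▸ MonoidHom.mem_ker.2 hg
  obtain ⟨k, rfl⟩ := Subgroup.mem_zpowers_iff.1 hgy
  refine Subgroup.mem_zpowers_iff.2 ⟨k, ?_⟩
  rw [SubgroupClass.coe_zpow, QuotientGroup.mk_zpow]
  congr 1
  rw [hy, Subgroup.coe_mul, QuotientGroup.mk_mul, gE_last,
    (QuotientGroup.eq_one_iff (N := Subgroup.center Co0) ((nC : C5) : Co0)).2 negOne_mem_center, mul_one]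

theorem pi5_faithful (g : C5) (hg : ∀ t, LCong ((g : Co0) • repF t) (repF t)) : pi5 g = 1 := by
  refine Subtype.ext ((pi5_spec g).unique fun j => ?_)
  rw [show cls g = id from funext fun t => cls_eq (hg t), Finset.image_id]
  rfl

/-- The data for the element of order 5. -/
noncomputable def data5 : CentData h5 alternatingFiveWreathTwo 256 where
  r := repF
  fixed t := by rw [repF_fixed]; exact Cong.refl _
  distinct := repF_distinct
  complete _ := repF_complete
  π := pi5
  surj := pi5_surjective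
  ker := pi5_ker
  map_self := by
    rw [show (⟨h5, _⟩ : C5) = gE 7 from Subtype.ext gE_last.symm]
    exact pi5_h5
  map_center := pi5_center
  faithful := pi5_faithful

end Cfsg.Agent.MonsterCent3.HN
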