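import Cfsg.Agent.MonsterCent3.HNCheckDefs

/-!
The representatives add modulo 2.
-/
set_option autoImplicit false
set_option maxRecDepth 100000
set_option Elab.async false

namespace Cfsg.Agent.MonsterCent3.HN

theorem addB_0 : addB 0 = true := by decide +kernel
theorem addB_1 : addB 1 = true := by decide +kernel
theorem addB_2 : addB 2 = true := by decide +kernel
theorem addB_3 : addB 3 = true := by decide +kernel
theorem addB_4 : addB 4 = true := by decide +kernel
theorem addB_5 : addB 5 = true := by decide +kernel
theorem addB_6 : addB 6 = true := by decide +kernel
theorem addB_7 : addB 7 = true := by decide +kernel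

theorem addB_all : ∀ k : Fin 8, addB k = true := fun k => by
  fin_cases k
  exacts [addB_0, addB_1, addB_2, addB_3, addB_4, addB_5, addB_6, addB_7]


end Cfsg.Agent.MonsterCent3.HN
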