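import Cfsg.Agent.MonsterCent3.HNCheckDefs

/-!
The generators act linearly on the classes, and permute the classes of length 64 as listed.
-/
set_option autoImplicit false
set_option maxRecDepth 100000
set_option Elab.async false

namespace Cfsg.Agent.MonsterCent3.HN

theorem imgB_0 : imgB 0 = true := by decide +kernel
theorem imgB_1 : imgB 1 = true := by decide +kernel
theorem imgB_2 : imgB 2 = true := by decide +kernel
theorem imgB_3 : imgB 3 = true := by decide +kernel
theorem imgB_4 : imgB 4 = true := by decide +kernel
theorem imgB_5 : imgB 5 = true := by decide +kernel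
theorem imgB_6 : imgB 6 = true := by decide +kernel
theorem imgB_7 : imgB 7 = true := by decide +kernel

theorem imgB_all : ∀ k : Fin 8, imgB k = true := fun k => by
  fin_cases k
  exacts [imgB_0, imgB_1, imgB_2, imgB_3, imgB_4, imgB_5, imgB_6, imgB_7]

theorem linB_0 : linB 0 = true := by decide +kernel
theorem linB_1 : linB 1 = true := by decide +kernel
theorem linB_2 : linB 2 = true := by decide +kernel
theorem linB_3 : linB 3 = true := by decide +kernel
theorem linB_4 : linB 4 = true := by decide +kernel
theorem linB_5 : linB 5 = true := by decide +kernel
theorem linB_6 : linB 6 = true := by decide +kernel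
theorem linB_7 : linB 7 = true := by decide +kernel

theorem linB_all : ∀ k : Fin 8, linB k = true := fun k => by
  fin_cases k
  exacts [linB_0, linB_1, linB_2, linB_3, linB_4, linB_5, linB_6, linB_7]

theorem clsB_0 : clsB 0 = true := by decide +kernel
theorem clsB_1 : clsB 1 = true := by decide +kernel
theorem clsB_2 : clsB 2 = true := by decide +kernel
theorem clsB_3 : clsB 3 = true := by decide +kernel
theorem clsB_4 : clsB 4 = true := by decide +kernel
theorem clsB_5 : clsB 5 = true := by decide +kernel
theorem clsB_6 : clsB 6 = true := by decide +kernel
theorem clsB_7 : clsB 7 = true := by decide +kernel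

theorem clsB_all : ∀ k : Fin 8, clsB k = true := fun k => by
  fin_cases k
  exacts [clsB_0, clsB_1, clsB_2, clsB_3, clsB_4, clsB_5, clsB_6, clsB_7]


end Cfsg.Agent.MonsterCent3.HN
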