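import Cfsg.Agent.MonsterCent3.HNCheckDefs

/-!
The generators define automorphisms of the lattice commuting with the element of order 5.
-/
set_option autoImplicit false
set_option maxRecDepth 100000
set_option Elab.async false

namespace Cfsg.Agent.MonsterCent3.HN

open Cfsg.Agent.SporStruct CoMatrix

theorem genB_0 : genB 0 = true := by decide +kernel
theorem genB_1 : genB 1 = true := by decide +kernel
theorem genB_2 : genB 2 = true := by decide +kernel
theorem genB_3 : genB 3 = true := by decide +kernel
theorem genB_4 : genB 4 = true := by decide +kernel
theorem genB_5 : genB 5 = true := by decide +kernel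
theorem genB_6 : genB 6 = true := by decide +kernel
theorem genB_7 : genB 7 = true := by decide +kernel
theorem monoOK_true : monoOK = true := by decide +kernel
theorem map6_true : checkMap (genT.getD 6 []) = true := by decide +kernel
theorem map6T_true : checkMap (transpL (genT.getD 6 [])) = true := by decide +kernel

theorem genT_length : genT.length = 8 := by decide +kernel

theorem genB_all : ∀ k : Fin 8, genB k = true := fun k => by
  fin_cases k
  exacts [genB_0, genB_1, genB_2, genB_3, genB_4, genB_5, genB_6, genB_7]

end Cfsg.Agent.MonsterCent3.HN
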