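import Cfsg.Agent.MonsterCent3.HNChecks
import Cfsg.Agent.MonsterCent3.HNCheckAdd
import Cfsg.Agent.MonsterCent3.HNCheckGen
import Cfsg.Agent.MonsterCent3.HNCheckCls

/-!
All the checks on the tables.
-/
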