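import Cfsg.Agent.MonsterCent3.HNData
import Cfsg.Agent.Lib.Golay.Generators

/-!
Definitions of the checks on the tables.
-/
set_option autoImplicit false
set_option maxRecDepth 100000

namespace Cfsg.Agent.MonsterCent3.HN

open Cfsg.Agent.SporStruct CoMatrix
open Cfsg.Agent.Golay (inCode comb maps checkAut isPermTab cubeTwistTab)

/-- The table of the element of order 5. -/
def hP : List (List ℤ) := permMat cubeTwistTab

/-- A representative. -/
def repL (t : ℕ) : List ℤ := repTab.getD t []

/-- A sum of rows. -/
def addL (x y : List ℤ) : List ℤ := List.zipWith (· + ·) x y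

/-- The sum over the orbit. -/
def orbL (v : List ℤ) : List ℤ :=
  let a := mapV hP v
  let b := mapV hP a
  let c := mapV hP b
  addL v (addL a (addL b (addL c (mapV hP c))))

/-- Congruence modulo twice the lattice. -/
def congB (x y : List ℤ) : Bool :=
  ((List.range 24).all fun i => decide ((x.getD i 0 - y.getD i 0) % 2 = 0)) &&
    inLB ((List.range 24).map fun i => (x.getD i 0 - y.getD i 0) / 2)

/-- The representatives are lattice vectors fixed by the element. -/
def repOK : Bool :=
  (List.range 256).all fun t =>
    decide ((repL t).length = 24) && inLB (repL t) && mapV hP (repL t) == repL t &&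
      (if t = 0 then repL t == List.replicate 24 0
       else if four.contains t then dotL (repL t) (repL t) == 64
       else dotL (repL t) (repL t) == 32 || dotL (repL t) (repL t) == 48)

/-- Adding a basis representative above the top bit. -/
def addB (k : ℕ) : Bool :=
  (List.range (2 ^ k)).all fun t => congB (addL (repL t) (repL (2 ^ k))) (repL (t ^^^ 2 ^ k))

/-- The orbit sums of the generators of the lattice. -/
def nOK : Bool :=
  decide (latGens.length = nTab.length) &&
  (List.range latGens.length).all fun i =>
    decide (nTab.getD i 0 < 256) && congB (orbL (latGens.getD i [])) (repL (nTab.getD i 0))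

/-- The generators commute with the element. -/
def genB (k : ℕ) : Bool := mulM (genT.getD k []) hP == mulM hP (genT.getD k [])

/-- The monomial generators come from automorphisms and words of the code. -/
def monoOK : Bool :=
  isPermTab pA && checkAut pA && isPermTab pB && checkAut pB && isPermTab pS && checkAut pS &&
    sB.all inCode && decide (sB.length = 4)

/-- The image of a class of length 64 under a generator. -/
def clsG (k t : ℕ) : ℕ := (genCls.getD k []).getD (four.idxOf t) 0

/-- The image of a class under a generator, by linearity. -/
def linImg (k t : ℕ) : ℕ :=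
  (List.range 8).foldl (fun acc j => if t.testBit j then acc ^^^ (genImg.getD k []).getD j 0 else acc) 0

/-- The images of the basis classes. -/
def imgB (k : ℕ) : Bool :=
  (List.range 8).all fun j =>
    decide (linImg k (2 ^ j) < 256) && congB (mapV (genT.getD k []) (repL (2 ^ j))) (repL (linImg k (2 ^ j)))

/-- The images are linear. -/
def linB (k : ℕ) : Bool :=
  decide (linImg k 0 = 0) && (List.range 8).all fun j => (List.range (2 ^ j)).all fun t =>
    decide (linImg k t ^^^ linImg k (2 ^ j) = linImg k (t ^^^ 2 ^ j))

/-- The classes of length 64 are permuted as listed. -/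
def clsB (k : ℕ) : Bool :=
  four.all fun t => four.contains (clsG k t) && (clsG k t == linImg k t)

/-- The ten subspaces. -/
def tenOK : Bool :=
  decide (ten.length = 10) && (ten.all fun s => s.all fun t => four.contains t) &&
  ((List.range 10).all fun i => (List.range 10).all fun j =>
    decide (i = j) || (ten.getD i []).any fun t => !(ten.getD j []).contains t) &&
  (List.range 8).all fun k => (List.range 10).all fun j =>
    decide ((genPerm.getD k []).getD j 0 < 10) &&
      (ten.getD j []).all fun t => (ten.getD ((genPerm.getD k []).getD j 0) []).contains (clsG k t)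

/-- The orbit of the standard class. -/
def pathOK : Bool :=
  four.contains fF &&
  (orbPath.all fun e => decide (e.2.2 < 8) && four.contains e.2.1 && (clsG e.2.2 e.2.1 == e.1)) &&
  (four.all fun t => t == fF || orbPath.any fun e => e.1 == t) &&
  (List.range orbPath.length).all fun i =>
    (orbPath.getD i (0, 0, 0)).2.1 == fF ||
      (List.range i).any fun j => (orbPath.getD j (0, 0, 0)).1 == (orbPath.getD i (0, 0, 0)).2.1

/-- The standard class. -/
def frameOK : Bool :=
  congB (repL fF) ((List.range 24).map fun i => if i = 23 then 8 else 0)

/-- The permutations in the group. -/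
def pairOK : Bool :=
  (pairTab.all fun e => isPermTab e.1 && checkAut e.1 && (evalW genT e.2 == permMat e.1)) &&
  [23, 0, 3, 15].all fun i => [23, 0, 3, 15].all fun j =>
    decide (i = j) || pairTab.any fun e => e.1.getD 23 0 == i && e.1.getD 0 0 == j

/-- The sign changes in the group. -/
def sgnOK : Bool :=
  (sgnTab.all fun e => inCode e.1 && (evalW genT e.2 == sgnMat e.1)) &&
  decide (sgnTab.length = 16) &&
  (List.range 4096).all fun m =>
    !maps cubeTwistTab (comb m) (comb m) || sgnTab.any fun e => e.1 == comb m

/-- Composition of permutations of ten letters. -/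
def evP (w : List ℕ) : List ℕ :=
  w.foldr (fun k acc => acc.map fun j => (genPerm.getD k []).getD j 0) (List.range 10)

/-- The words for the even permutations of the first five letters and for the interchange. -/
def wordsOK : Bool :=
  (a5Tab.all fun e => (e.2.all fun k => decide (k < 8)) && evP e.2 == e.1 ++ [5, 6, 7, 8, 9]) &&
  (swapW.all fun k => decide (k < 8)) && evP swapW == [5, 6, 7, 8, 9, 0, 1, 2, 3, 4]

end Cfsg.Agent.MonsterCent3.HN
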