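import Cfsg.Agent.MonsterCent3.HNCheckDefs

/-!
The quicker checks on the tables.
-/
set_option autoImplicit false
set_option maxRecDepth 100000
set_option Elab.async false

namespace Cfsg.Agent.MonsterCent3.HN

theorem repOK_true : repOK = true := by decide +kernel
theorem nOK_true : nOK = true := by decide +kernel
theorem tenOK_true : tenOK = true := by decide +kernel
theorem pathOK_true : pathOK = true := by decide +kernel
theorem frameOK_true : frameOK = true := by decide +kernel
theorem pairOK_true : pairOK = true := by decide +kernel
theorem sgnOK_true : sgnOK = true := by decide +kernel
theorem wordsOK_true : wordsOK = true := by decide +kernel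
theorem genT_last : genT.getD 7 [] = hP := by decide +kernel

end Cfsg.Agent.MonsterCent3.HN
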