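import Cfsg.Agent.MonsterCent3.HNCheckAll
import Cfsg.Agent.MonsterCent3.Data
import Cfsg.Agent.LeechUnitary.Sound
import Cfsg.Agent.Monster39.Stabilizer
import Cfsg.Agent.SporStruct.CentFive

/-!
The classes modulo 2 fixed by the element of order 5.
-/
set_option autoImplicit false
set_option maxRecDepth 100000

namespace Cfsg.Agent.MonsterCent3.HN

open Cfsg Cfsg.Agent.Leech
open Cfsg.Agent.SporStruct CoMatrix
open Cfsg.Agent.LeechUnitary (lat coe_lat vecL_lat)
open Cfsg.Agent.Golay (pt idx idx_lt pt_idx idx_pt Tab toSet mem_toSet cubeTwistTab tab_cubeTwist cubeTwist_mem)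

theorem xor_inj {s t : ℕ} (e : s ^^^ t = 0) : s = t := by
  rw [← Nat.xor_zero s, ← Nat.xor_self t, ← Nat.xor_assoc, e, Nat.zero_xor]

/-- The permutation of order 5. -/
noncomputable def s5 : M24 := ⟨cubeTwist, cubeTwist_mem⟩

/-- The element of order 5. -/
noncomputable def h5 : Co0 := Monster39.permHom s5

theorem rows_perm (σ : M24) {l : List ℕ} (h : Tab σ.1 l) : rows (Monster39.permHom σ) = permMat l := by
  rw [show Monster39.permHom σ = Leech.permHom σ from rfl]
  exact rows_permHom h

theorem rows_h5 : rows h5 = hP := rows_perm _ tab_cubeTwist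

theorem s5_pow : s5 ^ 5 = 1 := by
  apply Subtype.ext
  rw [SubmonoidClass.coe_pow]
  refine Equiv.ext fun p => ?_
  have h := CentFive.pow_pt (idx_lt p)
  rw [pow_succ', Equiv.Perm.mul_apply]
  show cubeTwist ((cubeTwist ^ 4) p) = p
  rw [← pt_idx p, h 4 (by norm_num), CentFive.cubeTwist_pt (CentFive.fix_facts.2 ⟨idx p, idx_lt p⟩ ⟨4, by norm_num⟩)]
  have key : ∀ i : Fin 24, pt (cubeTwistTab.getD (CentFive.iterB 4 i.val) 0) = pt i.val := by decide +kernel
  rw [pt_idx]
  conv_rhs => rw [← pt_idx p]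
  exact key ⟨idx p, idx_lt p⟩

theorem s5_ne_one : s5 ≠ 1 := by
  intro h
  have h1 : cubeTwist (pt 1) = pt 1 := by
    rw [show cubeTwist = 1 from congrArg Subtype.val h]; rfl
  rw [CentFive.cubeTwist_pt (by norm_num)] at h1
  exact absurd h1 (by decide +kernel)

theorem orderOf_s5 : orderOf s5 = 5 := by
  haveI : Fact (Nat.Prime 5) := ⟨by norm_num⟩
  exact orderOf_eq_prime s5_pow s5_ne_one

theorem h5_pow : h5 ^ 5 = 1 := by rw [h5, ← map_pow, s5_pow, map_one]

theorem vecL_add (v w : GolayPt → ℤ) : vecL (v + w) = addL (vecL v) (vecL w) := by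
  rw [addL, vecL, vecL, vecL, List.zipWith_map, List.zipWith_self]
  rfl

theorem cong_of_congB {x y : leechLattice}
    (h : congB (vecL (x : GolayPt → ℤ)) (vecL (y : GolayPt → ℤ)) = true) : LCong x y := by
  simp only [congB, Bool.and_eq_true, List.all_eq_true, List.mem_range, decide_eq_true_eq] at h
  obtain ⟨h2, hL⟩ := h
  have e : ((List.range 24).map fun i =>
      ((vecL (x : GolayPt → ℤ)).getD i 0 - (vecL (y : GolayPt → ℤ)).getD i 0) / 2) =
      vecL fun p => ((x : GolayPt → ℤ) p - (y : GolayPt → ℤ) p) / 2 :=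
    range_map_congr fun i hi => by simp only [vecL, getD_range_map _ _ hi]
  rw [e, inLB_vecL] at hL
  refine ⟨_, hL, funext fun p => ?_⟩
  have := h2 (idx p) (idx_lt p)
  simp only [vecL, getD_range_map _ _ (idx_lt p), pt_idx] at this
  simp only [Pi.sub_apply, Pi.smul_apply, nsmul_eq_mul]
  push_cast
  omega

theorem rep_facts {t : ℕ} (ht : t < 256) :
    (repL t).length = 24 ∧ inLB (repL t) = true ∧ mapV hP (repL t) = repL t := by
  have h := repOK_true
  simp only [repOK, List.all_eq_true, List.mem_range, Bool.and_eq_true, decide_eq_true_eq, beq_iff_eq] at h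
  obtain ⟨⟨⟨a, b⟩, c⟩, -⟩ := h t ht
  exact ⟨a, b, c⟩

/-- The representative. -/
noncomputable def rep (t : ℕ) : leechLattice := lat (repL t)

theorem vecL_rep {t : ℕ} (ht : t < 256) : vecL ((rep t : leechLattice) : GolayPt → ℤ) = repL t :=
  vecL_lat (rep_facts ht).1 (rep_facts ht).2.1

theorem rep_fixed {t : ℕ} (ht : t < 256) : h5 • rep t = rep t := by
  refine Subtype.ext (vecL_inj ?_)
  rw [← mapV_rows, rows_h5, vecL_rep ht, (rep_facts ht).2.2]

theorem sqNorm_vecL (x : GolayPt → ℤ) : sqNorm x = dotL (vecL x) (vecL x) := by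
  rw [← dotInt_self, LeechUnitary.Cert.dotInt_vecL]

theorem norm_rep {t : ℕ} (ht : t < 256) :
    (t = 0 → rep t = 0) ∧ (t ≠ 0 → (t ∈ four → sqNorm ((rep t : leechLattice) : GolayPt → ℤ) = 64) ∧
      (t ∉ four → sqNorm ((rep t : leechLattice) : GolayPt → ℤ) = 32 ∨
        sqNorm ((rep t : leechLattice) : GolayPt → ℤ) = 48)) := by
  have h := repOK_true
  simp only [repOK, List.all_eq_true, List.mem_range, Bool.and_eq_true, decide_eq_true_eq] at h
  have h1 := (h t ht).2
  constructor
  · intro h0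
    subst h0
    rw [if_pos rfl, beq_iff_eq] at h1
    refine Subtype.ext (vecL_inj ?_)
    rw [vecL_rep ht, h1, AddSubgroup.coe_zero]
    simp [vecL]
  · intro h0
    rw [if_neg h0] at h1
    rw [sqNorm_vecL, vecL_rep ht]
    refine ⟨fun hm => ?_, fun hm => ?_⟩
    · rw [if_pos (List.contains_iff_mem.2 hm), beq_iff_eq] at h1
      exact h1
    · rw [if_neg (fun hc => hm (List.contains_iff_mem.1 hc))] at h1
      simpa using h1

theorem zero_notMem_four : 0 ∉ four := by decide +kernel

theorem sqNorm_rep_le {t : ℕ} (ht : t < 256) : sqNorm ((rep t : leechLattice) : GolayPt → ℤ) ≤ 64 := by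
  by_cases h0 : t = 0
  · rw [(norm_rep ht).1 h0]; simp [sqNorm]
  · by_cases hm : t ∈ four
    · rw [((norm_rep ht).2 h0).1 hm]
    · rcases ((norm_rep ht).2 h0).2 hm with h | h <;> rw [h] <;> norm_num

theorem cong_add_right {x y : leechLattice} (h : LCong x y) (u : leechLattice) : LCong (x + u) (y + u) := by
  obtain ⟨w, hw, e⟩ := h
  refine ⟨w, hw, ?_⟩
  rw [AddSubgroup.coe_add, AddSubgroup.coe_add, add_sub_add_right_eq_sub, e]

theorem cong_add_left {x y : leechLattice} (h : LCong x y) (u : leechLattice) : LCong (u + x) (u + y) := by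
  rw [add_comm u x, add_comm u y]
  exact cong_add_right h u

theorem add_top {t k : ℕ} (ht : t < 2 ^ k) (hk : k < 8) :
    LCong (rep t + rep (2 ^ k)) (rep (t ^^^ 2 ^ k)) := by
  have h := addB_all ⟨k, hk⟩
  simp only [addB, List.all_eq_true, List.mem_range] at h
  have hk2 : 2 ^ k < 256 := Nat.pow_lt_pow_right (by norm_num) hk (m := k) (n := 8)
  refine cong_of_congB ?_
  rw [AddSubgroup.coe_add, vecL_add, vecL_rep (ht.trans hk2), vecL_rep hk2,
    vecL_rep (Nat.xor_lt_two_pow (n := 8) (ht.trans hk2) hk2)]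
  exact h t ht

theorem xor_top_lt {s : ℕ} (h0 : s ≠ 0) : s ^^^ 2 ^ s.log2 < 2 ^ s.log2 := by
  refine Nat.lt_pow_two_of_testBit _ fun j hj => ?_
  rw [Nat.testBit_xor, Nat.testBit_two_pow]
  rcases eq_or_lt_of_le hj with rfl | hj'
  · rw [Nat.testBit_log2 h0]; simp
  · rw [Nat.testBit_lt_two_pow (Nat.lt_of_lt_of_le Nat.lt_log2_self (Nat.pow_le_pow_right (by norm_num) hj'))]
    simp [Nat.ne_of_lt hj']

theorem cong_double (x y : leechLattice) : LCong (x + (y + y)) x :=
  ⟨(y : GolayPt → ℤ), SetLike.coe_mem _, by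
    funext p
    simp only [AddSubgroup.coe_add, Pi.sub_apply, Pi.add_apply, Pi.smul_apply, nsmul_eq_mul]
    push_cast
    ring⟩

theorem add_basis {t k : ℕ} (ht : t < 256) (hk : k < 8) :
    LCong (rep t + rep (2 ^ k)) (rep (t ^^^ 2 ^ k)) := by
  induction t using Nat.strong_induction_on with
  | _ t ih =>
    rcases Nat.lt_or_ge t (2 ^ k) with h | h
    · exact add_top h hk
    · have h0 : t ≠ 0 := Nat.pos_iff_ne_zero.1 ((Nat.two_pow_pos k).trans_le h)
      set m := t.log2 with hm
      have hkm : k ≤ m := (Nat.le_log2 h0).2 h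
      have hm8 : m < 8 := (Nat.log2_lt h0).2 ht
      have hlt : t ^^^ 2 ^ m < 2 ^ m := xor_top_lt h0
      set t' := t ^^^ 2 ^ m with ht'
      have e1 : t' ^^^ 2 ^ m = t := by rw [ht', Nat.xor_assoc, Nat.xor_self, Nat.xor_zero]
      have htlt : t' < t := hlt.trans_le (Nat.log2_self_le h0)
      have a := cong_add_right (add_top hlt hm8) (rep (2 ^ k))
      rw [e1] at a
      rcases eq_or_lt_of_le hkm with rfl | hlt2
      · refine (Cong.symm a).trans ?_
        rw [add_assoc]
        exact cong_double _ _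
      · have hu : t' ^^^ 2 ^ k < 2 ^ m :=
          Nat.xor_lt_two_pow hlt (Nat.pow_lt_pow_right (by norm_num) hlt2)
        have b := cong_add_right (ih t' htlt (htlt.trans ht)) (rep (2 ^ m))
        have c := add_top hu hm8
        rw [show t' ^^^ 2 ^ k ^^^ 2 ^ m = t ^^^ 2 ^ k by
          conv_rhs => rw [← e1]
          simp only [Nat.xor_assoc, Nat.xor_comm (2 ^ k) (2 ^ m)]] at c
        refine (Cong.symm a).trans ?_
        rw [add_right_comm]
        exact b.trans c

theorem add_rep : ∀ s t : ℕ, s < 256 → t < 256 → LCong (rep t + rep s) (rep (t ^^^ s)) := by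
  intro s
  induction s using Nat.strong_induction_on with
  | _ s ih =>
    intro t hs ht
    by_cases h0 : s = 0
    · subst h0
      rw [(norm_rep hs).1 rfl, add_zero, Nat.xor_zero]
      exact Cong.refl _
    · set k := s.log2 with hk
      have hlog := Nat.log2_self_le h0
      have hk8 : k < 8 := (Nat.log2_lt h0).2 hs
      set s' := s ^^^ 2 ^ k with hs'
      have hlt : s' < s := by
        refine Nat.lt_of_lt_of_le (Nat.lt_pow_two_of_testBit (n := k) _ fun j hj => ?_) hlog
        rw [hs', Nat.testBit_xor, Nat.testBit_two_pow]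
        rcases eq_or_lt_of_le hj with rfl | hj'
        · rw [hk, Nat.testBit_log2 h0]; simp
        · rw [Nat.testBit_lt_two_pow (Nat.lt_of_lt_of_le Nat.lt_log2_self (Nat.pow_le_pow_right (by norm_num) hj'))]
          simp [Nat.ne_of_lt hj']
      have e1 : s = s' ^^^ 2 ^ k := by rw [hs', Nat.xor_assoc, Nat.xor_self, Nat.xor_zero]
      have ht' : t ^^^ s' < 256 := Nat.xor_lt_two_pow (n := 8) ht (hlt.trans hs)
      have a1 := cong_add_left (add_basis (t := s') (hlt.trans hs) hk8) (rep t)
      rw [← e1, ← add_assoc] at a1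
      have a2 := cong_add_right (ih s' hlt t (hlt.trans hs) ht) (rep (2 ^ k))
      have a3 := add_basis ht' hk8
      rw [Nat.xor_assoc, ← e1] at a3
      exact (Cong.symm a1).trans (a2.trans a3)

/-- The sum over the orbit of the element. -/
noncomputable def orbSum : leechLattice →+ leechLattice :=
  AddMonoidHom.id _ + (hom h5 + (hom (h5 ^ 2) + (hom (h5 ^ 3) + hom (h5 ^ 4))))

theorem vecL_orbSum (v : leechLattice) :
    vecL ((orbSum v : leechLattice) : GolayPt → ℤ) = orbL (vecL (v : GolayPt → ℤ)) := by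
  simp only [orbSum, AddMonoidHom.add_apply, AddMonoidHom.id_apply, hom_apply, AddSubgroup.coe_add, vecL_add,
    pow_succ', pow_zero, mul_one, mul_smul, ← mapV_rows, rows_h5, orbL]

theorem cong_orbSum {v : leechLattice} (h : LCong (h5 • v) v) : LCong v (orbSum v) := by
  have hk : ∀ k : ℕ, LCong ((h5 ^ k) • v) v := by
    intro k
    induction k with
    | zero => rw [pow_zero, one_smul]; exact Cong.refl _
    | succ k ih =>
      rw [pow_succ', mul_smul]
      exact (cong_smul h5 ih).trans h
  have h5v : LCong v (v + (v + (v + (v + v)))) := by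
    refine ⟨((-(v + v) : leechLattice) : GolayPt → ℤ), SetLike.coe_mem _, ?_⟩
    funext p
    simp only [AddSubgroup.coe_add, AddSubgroup.coe_neg, Pi.sub_apply, Pi.add_apply, Pi.neg_apply,
      Pi.smul_apply, nsmul_eq_mul]
    push_cast
    ring
  refine h5v.trans (Cong.symm ?_)
  show LCong (v + (h5 • v + ((h5 ^ 2) • v + ((h5 ^ 3) • v + (h5 ^ 4) • v)))) _
  refine cong_add_left ?_ v
  refine (cong_add_right h _).trans (cong_add_left ?_ v)
  refine (cong_add_right (hk 2) _).trans (cong_add_left ?_ v)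
  exact (cong_add_right (hk 3) _).trans (cong_add_left (hk 4) v)

theorem exists_rep {v : leechLattice} (h : LCong (h5 • v) v) : ∃ t < 256, LCong v (rep t) := by
  let W : AddSubgroup leechLattice :=
    { carrier := {u | ∃ t < 256, LCong (orbSum u) (rep t)}
      zero_mem' := ⟨0, by norm_num, by rw [map_zero, (norm_rep (by norm_num)).1 rfl]; exact Cong.refl _⟩
      add_mem' := by
        rintro a b ⟨t, ht, ha⟩ ⟨s, hs, hb⟩
        refine ⟨t ^^^ s, Nat.xor_lt_two_pow (n := 8) ht hs, ?_⟩
        rw [map_add]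
        exact (cong_add_right ha _).trans ((cong_add_left hb _).trans (add_rep s t hs ht))
      neg_mem' := by
        rintro a ⟨t, ht, ha⟩
        refine ⟨t, ht, ?_⟩
        rw [map_neg]
        have h1 : LCong (-orbSum a) (orbSum a) := by
          refine Cong.symm ?_
          exact cong_neg (SetLike.coe_mem _)
        exact h1.trans ha }
  have hgen : ∀ r ∈ latGens, ∃ hr : vecP r ∈ leechLattice, (⟨vecP r, hr⟩ : leechLattice) ∈ W := by
    intro r hr
    have hl := latGens_vec r hr
    obtain ⟨i, hi, rfl⟩ := List.getElem_of_mem hr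
    have hn := nOK_true
    simp only [nOK, Bool.and_eq_true, List.all_eq_true, List.mem_range, decide_eq_true_eq] at hn
    obtain ⟨h256, hc⟩ := hn.2 i hi
    have hin : inLB latGens[i] = true := by
      have : ∀ r ∈ latGens, inLB r = true := by decide +kernel
      exact this _ hr
    have hm : vecP latGens[i] ∈ leechLattice := by rw [← inLB_vecL, vecL_vecP hl]; exact hin
    refine ⟨hm, nTab.getD i 0, h256, cong_of_congB ?_⟩
    rw [vecL_orbSum, vecL_rep h256]
    show congB (orbL (vecL (vecP latGens[i]))) _ = true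
    rw [vecL_vecP hl, ← List.getD_eq_getElem (l := latGens) (d := []) hi]
    exact hc
  have hmem : v ∈ W := by
    have h1 : ((v : leechLattice) : GolayPt → ℤ) ∈ W.map leechLattice.subtype := by
      refine (AddSubgroup.closure_le _).2 ?_ (closure_latGens v.2)
      rintro _ ⟨r, hr, rfl⟩
      obtain ⟨hm, hW⟩ := hgen r hr
      exact ⟨_, hW, rfl⟩
    obtain ⟨u, hu, e⟩ := h1
    rwa [show u = v from Subtype.ext e] at hu
  obtain ⟨t, ht, h2⟩ := hmem
  exact ⟨t, ht, (cong_orbSum h).trans h2⟩

theorem rep_distinct {s t : ℕ} (hs : s < 256) (ht : t < 256) (h : LCong (rep s) (rep t)) : s = t := by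
  have hst : s ^^^ t < 256 := Nat.xor_lt_two_pow (n := 8) hs ht
  have h1 : LCong (rep (s ^^^ t)) (rep 0) := by
    refine (Cong.symm (add_rep t s ht hs)).trans ((cong_add_right h _).trans ?_)
    have := add_rep t t ht ht
    rwa [Nat.xor_self] at this
  rw [(norm_rep (by norm_num : (0 : ℕ) < 256)).1 rfl] at h1
  have h2 := sqNorm_eq_of_cong noRoots (SetLike.coe_mem (rep (s ^^^ t))) (sqNorm_rep_le hst)
    (by simp [sqNorm]) h1
  by_contra hne
  have h0 : s ^^^ t ≠ 0 := fun e => hne (xor_inj e)
  have h3 : sqNorm ((0 : leechLattice) : GolayPt → ℤ) = 0 := by simp [sqNorm]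
  rw [h3] at h2
  by_cases hm : s ^^^ t ∈ four
  · rw [((norm_rep hst).2 h0).1 hm] at h2; norm_num at h2
  · rcases ((norm_rep hst).2 h0).2 hm with e | e <;> rw [e] at h2 <;> norm_num at h2

/-- The fixed representatives, indexed. -/
noncomputable def repF (t : Fin 256) : leechLattice := rep t

theorem repF_fixed (t : Fin 256) : h5 • repF t = repF t := rep_fixed t.2

theorem repF_distinct (s t : Fin 256) (h : LCong (repF s) (repF t)) : s = t :=
  Fin.ext (rep_distinct s.2 t.2 h)

theorem repF_complete {v : leechLattice} (h : LCong (h5 • v) v) : ∃ t, LCong v (repF t) := by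
  obtain ⟨t, ht, hc⟩ := exists_rep h
  exact ⟨⟨t, ht⟩, hc⟩

end Cfsg.Agent.MonsterCent3.HN
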