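import Cfsg.Agent.Monster39.Stabilizer
import Cfsg.Agent.MonsterCent3.Generic

/-!
A subgroup of prime order of the joint centralizer of `z` and a conjugate `s` of `z` in `Q`: its place
in the Conway group, and an element of its centralizer moving `z`.
-/
set_option autoImplicit false
set_option linter.style.haveILetI false
set_option linter.unusedSectionVars false

namespace Cfsg.Agent.MonsterCent3

open Cfsg Cfsg.Agent.Monster39
open scoped Pointwise

variable {G : Type*} [Group G] [Finite G] {z : G}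
  {Q : Subgroup (Subgroup.centralizer ({z} : Set G))} [Q.Normal]
  {e : (Subgroup.centralizer ({z} : Set G)) ⧸ Q ≃* Spor.Co1}
  {ψ : leechLattice → Q ⧸ Subgroup.center Q}

variable (M : Setting z Q e ψ)

omit [Finite G] in
theorem mem_pair_iff {s : Subgroup.centralizer ({z} : Set G)} {x : G} :
    x ∈ Subgroup.centralizer ({z, (s : G)} : Set G) ↔ x * z = z * x ∧ x * s = s * x := by
  rw [Subgroup.mem_centralizer_iff]
  constructor
  · exact fun h => ⟨(h z (by simp)).symm, (h _ (by simp)).symm⟩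
  · rintro ⟨h1, h2⟩ y hy
    simp only [Set.mem_insert_iff, Set.mem_singleton_iff] at hy
    rcases hy with rfl | rfl
    exacts [h1.symm, h2.symm]

include M

theorem card_centralizer_pair {s : Q} (hs : Cls ψ 64 s) :
    Nat.card (Subgroup.centralizer ({z, ((s : Subgroup.centralizer ({z} : Set G)) : G)} : Set G)) =
      2 ^ 24 * (2 ^ 11 * 244823040) := by
  have h := M.card_proj_cent (M.not_mem_center (by norm_num) (by norm_num) hs)
  rw [M.card_stabilizer hs] at h
  rw [mul_comm, h]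
  exact Nat.card_congr
    { toFun := fun x => ⟨⟨x, Subgroup.mem_centralizer_singleton_iff.2 (mem_pair_iff.1 x.2).1⟩,
        Subgroup.mem_centralizer_singleton_iff.2 (Subtype.ext (mem_pair_iff.1 x.2).2)⟩
      invFun := fun c => ⟨((c : Subgroup.centralizer ({z} : Set G)) : G), mem_pair_iff.2
        ⟨Subgroup.mem_centralizer_singleton_iff.1 (c : Subgroup.centralizer ({z} : Set G)).2,
          congrArg Subtype.val (Subgroup.mem_centralizer_singleton_iff.1 c.2)⟩⟩
      left_inv := fun _ => rfl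
      right_inv := fun _ => rfl }

variable {p : ℕ} (hp : p.Prime) (hp2 : p ≠ 2) {s : Q} (hs : Cls ψ 64 s)
  (hp1 : (2 ^ 11 * 244823040 : ℕ).factorization p = 1) {B : Subgroup G}
  (hB : B ≤ Subgroup.centralizer ({z, ((s : Subgroup.centralizer ({z} : Set G)) : G)} : Set G))

include hp hp2 hs hp1

theorem factorization_pair :
    (Nat.card (Subgroup.centralizer ({z, ((s : Subgroup.centralizer ({z} : Set G)) : G)} : Set G))).factorization p = 1 := by
  rw [card_centralizer_pair M hs, Nat.factorization_mul (by norm_num) (by norm_num), Finsupp.add_apply,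
    hp1, Nat.prime_two.factorization_pow, Finsupp.single_apply, if_neg (Ne.symm hp2)]

include hB

/-- `B` has a generator over a conjugate of a given element of order `p` of `M24`. -/
theorem locate (hBc : Nat.card B = p) (σ : M24) (hσ : orderOf σ = p) :
    ∃ (b : Subgroup.centralizer ({z} : Set G)) (a : Co0), orderOf b = p ∧
      B = Subgroup.zpowers (b : G) ∧ proj e b = QuotientGroup.mk (a * permHom σ * a⁻¹) ∧
      (a * permHom σ * a⁻¹) ^ p = 1 := by
  classical
  haveI := finiteCo1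
  haveI : Fact p.Prime := ⟨hp⟩
  obtain ⟨x, hx⟩ : IsCyclic B := isCyclic_of_prime_card hBc
  have hxo : orderOf (x : G) = p := by
    rw [Subgroup.orderOf_coe, ← hBc]
    exact orderOf_eq_card_of_forall_mem_zpowers hx
  let c : Subgroup.centralizer ({z} : Set G) :=
    ⟨x, Subgroup.mem_centralizer_singleton_iff.2 (mem_pair_iff.1 (hB x.2)).1⟩
  have hco : orderOf c = p := (Subgroup.orderOf_coe c).symm.trans hxo
  set S := (Subgroup.centralizer ({(s : Subgroup.centralizer ({z} : Set G))} :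
        Set (Subgroup.centralizer ({z} : Set G)))).map (proj e) with hS
  have hcS : proj e c ∈ S := ⟨c, Subgroup.mem_centralizer_singleton_iff.2
    (Subtype.ext (mem_pair_iff.1 (hB x.2)).2), rfl⟩
  have hpc : orderOf (proj e c) = p := by
    rcases (Nat.dvd_prime hp).1 (hco ▸ orderOf_map_dvd (proj e) c) with h | h
    · exfalso
      rw [orderOf_eq_one_iff, proj_eq_one] at h
      have h2 := Subgroup.orderOf_dvd_natCard Q h
      rw [hco, M.card_Q] at h2
      exact hp2 ((Nat.prime_dvd_prime_iff_eq hp Nat.prime_two).1 (hp.dvd_of_dvd_pow h2))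
    · exact h
  obtain ⟨a₀, ha₀⟩ := M.exists_mathieu hs
  have hσo : orderOf (mathieuHom a₀ σ) = p := by rw [orderOf_injective _ (mathieuHom_injective a₀), hσ]
  set P1 := (Subgroup.zpowers (proj e c)).subgroupOf S with hP1
  set P2 := (Subgroup.zpowers (mathieuHom a₀ σ)).subgroupOf S with hP2
  have hmS : mathieuHom a₀ σ ∈ S := ha₀ ⟨σ, rfl⟩
  have hc1 : Nat.card P1 = p ^ (Nat.card S).factorization p := by
    rw [Nat.card_congr (Subgroup.subgroupOfEquivOfLe (Subgroup.zpowers_le.2 hcS)).toEquiv, Nat.card_zpowers,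
      hpc, M.card_stabilizer hs, hp1, pow_one]
  have hc2 : Nat.card P2 = p ^ (Nat.card S).factorization p := by
    rw [Nat.card_congr (Subgroup.subgroupOfEquivOfLe (Subgroup.zpowers_le.2 hmS)).toEquiv, Nat.card_zpowers,
      hσo, M.card_stabilizer hs, hp1, pow_one]
  obtain ⟨k, hk⟩ := MulAction.exists_smul_eq S (Sylow.ofCard P2 hc2) (Sylow.ofCard P1 hc1)
  have hk' : MulAut.conj k • P2 = P1 := congrArg (fun P : Sylow p S => (P : Subgroup S)) hk
  have hmem : (⟨mathieuHom a₀ σ, hmS⟩ : S) ∈ P2 := Subgroup.mem_zpowers _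
  have h3 : (k : Spor.Co1) * mathieuHom a₀ σ * (k : Spor.Co1)⁻¹ ∈ Subgroup.zpowers (proj e c) := by
    have := Subgroup.smul_mem_pointwise_smul _ (MulAut.conj k) _ hmem
    rw [hk'] at this
    exact this
  obtain ⟨j, hj⟩ := h3
  obtain ⟨k', hk2⟩ := QuotientGroup.mk_surjective (k : Spor.Co1)
  set g0 := k' * a₀⁻¹ * permHom σ * (k' * a₀⁻¹)⁻¹ with hg0
  have hbg : proj e (c ^ j) = QuotientGroup.mk g0 := by
    rw [map_zpow]
    refine (hj : proj e c ^ j = _).trans ?_
    rw [← hk2]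
    show QuotientGroup.mk k' * QuotientGroup.mk (a₀⁻¹ * permHom σ * a₀⁻¹⁻¹) * (QuotientGroup.mk k')⁻¹ =
      (QuotientGroup.mk g0 : Spor.Co1)
    rw [← QuotientGroup.mk_inv, ← QuotientGroup.mk_mul, ← QuotientGroup.mk_mul]
    refine congrArg _ ?_
    rw [hg0]; group
  have hbo : orderOf (c ^ j) = p := by
    refine orderOf_eq_prime ?_ fun h => ?_
    · rw [← zpow_natCast, ← zpow_mul, mul_comm, zpow_mul, zpow_natCast, ← hco, pow_orderOf_eq_one, one_zpow]
    · have h1 := congrArg (proj e) h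
      simp only at hj
      rw [map_zpow, map_one, hj, conj_eq_one_iff] at h1
      rw [h1, orderOf_one] at hσo
      exact hp.one_lt.ne hσo
  refine ⟨c ^ j, k' * a₀⁻¹, hbo, ?_, hbg, ?_⟩
  · symm
    refine Subgroup.eq_of_le_of_card_ge (Subgroup.zpowers_le.2 ?_) ?_
    · rw [SubgroupClass.coe_zpow]; exact B.zpow_mem x.2 j
    · rw [Nat.card_zpowers, Subgroup.orderOf_coe, hbo, hBc]
  · rw [conj_pow, ← map_pow, ← hσ, pow_orderOf_eq_one, map_one, mul_one, mul_inv_cancel]

/-- An element of the centralizer of `B` moving `z` to another element of `Q`. -/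
theorem exists_fusion (hBc : Nat.card B = p) (hp3 : (p - 1) % 3 ≠ 0) :
    ∃ g ∈ Subgroup.centralizer (B : Set G), ∃ s' : Q, s' ≠ M.zQ ∧
      g * z * g⁻¹ = ((s' : Subgroup.centralizer ({z} : Set G)) : G) := by
  classical
  haveI : Fact p.Prime := ⟨hp⟩
  obtain ⟨hsconj, hsne⟩ := (M.isConj_iff_cls s).2 hs
  obtain ⟨g₀, hg₀⟩ := isConj_iff.1 hsconj
  have hne : s ≠ M.zQ := (M.ne_zQ_iff s).2 hsne
  obtain ⟨y, hy, hyc⟩ := M.exists_back (x := s) hg₀ hne
  have hy64 : Cls ψ 64 y := by
    refine (M.isConj_iff_cls y).1 ⟨isConj_iff.2 ⟨g₀⁻¹, by rw [hy, inv_inv]⟩, ?_⟩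
    intro h
    exact hyc (M.mem_center_iff.2 (Or.inr (Subtype.ext (Subtype.ext h))))
  obtain ⟨h, hh⟩ := M.transitive (by norm_num) hs hy64
  obtain ⟨q, hq⟩ := M.exists_flip (M.not_mem_center (by norm_num) (by norm_num) hs)
  set S : G := ((s : Subgroup.centralizer ({z} : Set G)) : G) with hSdef
  set g1 := g₀ * (h : G) with hg1
  have hhz : (h : G) * z * (h : G)⁻¹ = z := by
    rw [Subgroup.mem_centralizer_singleton_iff.1 h.2, mul_inv_cancel_right]
  have hhs : (h : G) * S * (h : G)⁻¹ = g₀⁻¹ * z * g₀ :=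
    (congrArg (fun u : Q => ((u : Subgroup.centralizer ({z} : Set G)) : G)) hh).trans hy
  have h1z : g1 * z * g1⁻¹ = S := by
    rw [hg1, show g₀ * (h : G) * z * (g₀ * h)⁻¹ = g₀ * ((h : G) * z * (h : G)⁻¹) * g₀⁻¹ by group, hhz, hg₀]
  have h1s : g1 * S * g1⁻¹ = z := by
    rw [hg1, show g₀ * (h : G) * S * (g₀ * h)⁻¹ = g₀ * ((h : G) * S * (h : G)⁻¹) * g₀⁻¹ by group, hhs]
    group
  set u : G := ((q : Subgroup.centralizer ({z} : Set G)) : G) with hudef
  have huz : u * z * u⁻¹ = z := by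
    rw [Subgroup.mem_centralizer_singleton_iff.1 (q : Subgroup.centralizer ({z} : Set G)).2, mul_inv_cancel_right]
  have hus : u * S * u⁻¹ = S * z := congrArg (fun v : Q => ((v : Subgroup.centralizer ({z} : Set G)) : G)) hq
  have hzS : S * z = z * S := Subgroup.mem_centralizer_singleton_iff.1 (s : Subgroup.centralizer ({z} : Set G)).2
  set a := (u * g1)⁻¹ with ha
  have hxz : u * g1 * z * (u * g1)⁻¹ = S * z := by
    rw [show u * g1 * z * (u * g1)⁻¹ = u * (g1 * z * g1⁻¹) * u⁻¹ by group, h1z, hus]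
  have hxs : u * g1 * S * (u * g1)⁻¹ = z := by
    rw [show u * g1 * S * (u * g1)⁻¹ = u * (g1 * S * g1⁻¹) * u⁻¹ by group, h1s, huz]
  have haz : a * z * a⁻¹ = S := by
    rw [ha, inv_inv]
    calc (u * g1)⁻¹ * z * (u * g1) = (u * g1)⁻¹ * (u * g1 * S * (u * g1)⁻¹) * (u * g1) := by rw [hxs]
      _ = S := by group
  have has : a * S * a⁻¹ = z * S := by
    have h2 : (u * g1)⁻¹ * (S * z) * (u * g1) = z := by
      calc _ = (u * g1)⁻¹ * (u * g1 * z * (u * g1)⁻¹) * (u * g1) := by rw [hxz]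
        _ = z := by group
    have hzz := M.zz_eq
    rw [ha, inv_inv]
    calc (u * g1)⁻¹ * S * (u * g1) = (u * g1)⁻¹ * (S * z * z) * (u * g1) := by rw [mul_assoc S, hzz, mul_one]
      _ = (u * g1)⁻¹ * (S * z) * (u * g1) * ((u * g1)⁻¹ * z * (u * g1)) := by group
      _ = z * S := by rw [h2]; congr 1; rw [← haz, ha, inv_inv]
  set LL := Subgroup.centralizer ({z, S} : Set G) with hLL
  have hLmem : ∀ x : G, x ∈ LL ↔ x * z = z * x ∧ x * S = S * x := fun x => mem_pair_iff
  have hanorm : ∀ x ∈ LL, a * x * a⁻¹ ∈ LL := by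
    intro x hx
    obtain ⟨hx1, hx2⟩ := (hLmem x).1 hx
    have c1 : Commute (a * x * a⁻¹) S := by
      have := (show Commute x z from hx1).map (MulAut.conj a).toMonoidHom
      simpa [haz] using this
    have c2 : Commute (a * x * a⁻¹) (z * S) := by
      have := (show Commute x S from hx2).map (MulAut.conj a).toMonoidHom
      simpa [has] using this
    have c3 : Commute (a * x * a⁻¹) z := by
      have := c2.mul_right c1.inv_right
      rwa [mul_inv_cancel_right] at this
    exact (hLmem _).2 ⟨c3, c1⟩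
  set P1 := B.subgroupOf LL with hP1
  set B' := B.map (MulAut.conj a).toMonoidHom with hB'
  have hB'le : B' ≤ LL := by rintro _ ⟨x, hx, rfl⟩; exact hanorm x (hB hx)
  set P2 := B'.subgroupOf LL with hP2
  have hc : ∀ D : Subgroup G, D ≤ LL → Nat.card D = p →
      Nat.card (D.subgroupOf LL) = p ^ (Nat.card LL).factorization p := by
    intro D hD hD'
    rw [Nat.card_congr (Subgroup.subgroupOfEquivOfLe hD).toEquiv, hD', hLL, factorization_pair M hp hp2 hs hp1,
      pow_one]
  have hB'c : Nat.card B' = p := by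
    rw [hB', Subgroup.card_map_of_injective (MulAut.conj a).injective, hBc]
  obtain ⟨l, hl⟩ := MulAction.exists_smul_eq LL (Sylow.ofCard P2 (hc B' hB'le hB'c)) (Sylow.ofCard P1 (hc B hB hBc))
  have hl' : MulAut.conj l • P2 = P1 := congrArg (fun P : Sylow p LL => (P : Subgroup LL)) hl
  set a' := (l : G) * a with ha'
  have hnorm : ∀ x ∈ B, a' * x * a'⁻¹ ∈ B := by
    intro x hx
    have hmem : (⟨a * x * a⁻¹, hanorm x (hB hx)⟩ : LL) ∈ P2 := ⟨x, hx, rfl⟩
    have := Subgroup.smul_mem_pointwise_smul _ (MulAut.conj l) _ hmem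
    rw [hl'] at this
    change (l : G) * (a * x * a⁻¹) * (l : G)⁻¹ ∈ B at this
    rwa [show (l : G) * a * x * ((l : G) * a)⁻¹ = (l : G) * (a * x * a⁻¹) * (l : G)⁻¹ by group]
  obtain ⟨hlz, hls⟩ := (hLmem _).1 l.2
  have hlz' : (l : G) * z * (l : G)⁻¹ = z := by rw [hlz, mul_inv_cancel_right]
  have hls' : (l : G) * S * (l : G)⁻¹ = S := by rw [hls, mul_inv_cancel_right]
  have e1 : a' * z * a'⁻¹ = S := by
    rw [ha', show (l : G) * a * z * ((l : G) * a)⁻¹ = (l : G) * (a * z * a⁻¹) * (l : G)⁻¹ by group, haz, hls']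
  have e2 : a' * S * a'⁻¹ = z * S := by
    rw [ha', show (l : G) * a * S * ((l : G) * a)⁻¹ = (l : G) * (a * S * a⁻¹) * (l : G)⁻¹ by group, has,
      show (l : G) * (z * S) * (l : G)⁻¹ = ((l : G) * z * (l : G)⁻¹) * ((l : G) * S * (l : G)⁻¹) by group,
      hlz', hls']
  have e3 : a' * (z * S) * a'⁻¹ = z := by
    rw [show a' * (z * S) * a'⁻¹ = (a' * z * a'⁻¹) * (a' * S * a'⁻¹) by group, e1, e2, ← mul_assoc, hzS,
      mul_assoc]
    have hS2 : S * S = 1 := by
      rw [← hg₀, show g₀ * z * g₀⁻¹ * (g₀ * z * g₀⁻¹) = g₀ * (z * z) * g₀⁻¹ by group, M.zz_eq]; group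
    rw [hS2, mul_one]
  have hpow : ∀ n : ℕ, a' ^ n * z * (a' ^ n)⁻¹ =
      if n % 3 = 0 then z else if n % 3 = 1 then S else z * S := by
    intro n
    induction n with
    | zero => simp
    | succ n ih =>
      rw [show a' ^ (n + 1) * z * (a' ^ (n + 1))⁻¹ = a' * (a' ^ n * z * (a' ^ n)⁻¹) * a'⁻¹ by group, ih]
      rcases (by omega : n % 3 = 0 ∨ n % 3 = 1 ∨ n % 3 = 2) with h0 | h0 | h0 <;>
        simp [h0, Nat.add_mod, e1, e2, e3]
  refine ⟨_, pow_pred_mem_centralizer hp hBc hnorm, ?_⟩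
  rw [hpow]
  rcases (by omega : (p - 1) % 3 = 1 ∨ (p - 1) % 3 = 2) with h0 | h0
  · exact ⟨s, hne, by simp [h0, hSdef]⟩
  · refine ⟨M.zQ * s, fun h => ?_, by simp [h0, hSdef]; rfl⟩
    have : s = 1 := mul_left_cancel (h.trans (mul_one _).symm)
    exact M.not_mem_center (by norm_num) (by norm_num) hs (M.mem_center_iff.2 (Or.inl this))

end Cfsg.Agent.MonsterCent3
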